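import Groth.Agent.AlgStBig.Cover

/-!
# Monomorphisms are fully faithful; the diagonal of a composition with a monomorphism
-/

set_option autoImplicit false
set_option linter.style.haveILetI false
set_option backward.isDefEq.respectTransparency false
set_option backward.isDefEq.respectTransparency.types false

universe vv1 ww1 vv2 ww2
universe w v₁ v₂ v₃ u₁ u₂ u₃ u

open CategoryTheory CategoryTheory.Limits AlgebraicGeometry Opposite AlgSp FibCat FibLib AlgSpLib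

namespace AlgStBig
open AlgStLib

variable {S : Scheme.{u}} {𝒳 : BasedCategory.{vv1, ww1} (Over S)} {𝒴 : BasedCategory.{vv2, ww2} (Over S)}

lemma full_ofPshMap_of_injective {P Q : (Over S)ᵒᵖ ⥤ Type (u + 1)} (φ : P ⟶ Q)
    (h : ∀ T, Function.Injective (φ.app T)) : (Stk.ofPshMap φ).toFunctor.Full :=
  ⟨fun {a b} g => ⟨⟨g.hom, h _ ((NatTrans.naturality_apply φ _ _).trans g.map_sec)⟩, Stk.EltObj.hom_ext rfl⟩⟩

lemma injective_app_of_mono {P Q : Sp S} (a : P ⟶ Q) [Mono a] (T : (Over S)ᵒᵖ) :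
    Function.Injective (a.hom.app T) := by
  haveI : Mono a.hom := (sheafToPresheaf (AlgSp.J S) (Type (u + 1))).map_mono a
  exact (CategoryTheory.mono_iff_injective _).mp ((NatTrans.mono_iff_mono_app a.hom).mp inferInstance T)

theorem full_of_isMono [IsFibGrpd 𝒳.p] [IsFibGrpd 𝒴.p] {f : 𝒳 ⥤ᵇ 𝒴} (hf : AlgSt.IsMono f) :
    f.toFunctor.Full := by
  refine full_of_fiber f (preservesStronglyCartesian_of_isFibGrpd f) fun U => ⟨fun {a b} φ => ?_⟩
  let fb : 𝒴.p.Fiber U := Functor.Fiber.mk (p := 𝒴.p) (a := f.obj b.1) ((f.w_obj b.1).trans b.2)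
  let u : AlgSt.ofSch U ⥤ᵇ 𝒴 := BasedFunctor.comp (AlgSt.toOverCat U) (ofPoint fb)
  let o : (AlgSt.ofSch U).obj := ⟨U, ⟨𝟙 U⟩⟩
  obtain ⟨k⟩ := nonempty_evalAtId_ofPoint_iso fb
  let kb : u.obj o ≅ f.obj b.1 :=
    ⟨k.hom.1, k.inv.1, congrArg Subtype.val k.hom_inv_id, congrArg Subtype.val k.inv_hom_id⟩
  haveI hkb : 𝒴.p.IsHomLift (𝟙 U) kb.hom := k.hom.2
  let φ₀ : f.obj a.1 ⟶ f.obj b.1 := φ.1
  haveI hφ : 𝒴.p.IsHomLift (𝟙 U) φ₀ := φ.2
  haveI hi : IsIso φ₀ := isIso_of_isHomLift (p := 𝒴.p) (𝟙 U) φ₀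
  let ka : u.obj o ≅ f.obj a.1 := kb ≪≫ (asIso φ₀).symm
  have hka : 𝒴.p.IsHomLift (𝟙 U) ka.hom := by
    haveI : 𝒴.p.IsHomLift (𝟙 U) (asIso φ₀).inv := @IsHomLift.lift_id_inv _ _ _ _ 𝒴.p _ _ _ (asIso φ₀) hφ
    simp only [ka, Iso.trans_hom, Iso.symm_hom]
    infer_instance
  let ηb : (fp u f).obj := fpObj o b.1 kb hkb
  let ηa : (fp u f).obj := fpObj o a.1 ka hka
  obtain ⟨H, c, hH, ⟨e, he, ⟨β⟩⟩, hc⟩ := (repByAlgSpWith_iff _ f).mp hf U u
  haveI : Mono c := hc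
  obtain ⟨⟨_, _⟩, hE⟩ := (isEquivOver_iff e).mp he
  haveI : (e.toFunctor ⋙ (FibCat.fpFst u f).toFunctor).Full :=
    @Functor.Full.of_iso _ _ _ _ _ _ (full_ofPshMap_of_injective c.hom (injective_app_of_mono c))
      ((BasedNatTrans.forgetful _ _).mapIso β).symm
  obtain ⟨za, ea, -⟩ := hE ηa
  obtain ⟨zb, eb, -⟩ := hE ηb
  obtain ⟨t, ht⟩ := (e.toFunctor ⋙ (FibCat.fpFst u f).toFunctor).map_surjective
    ((FibCat.fpFst u f).map (ea.hom) ≫ (𝟙 o : ηa.obj.fst ⟶ ηb.obj.fst) ≫ (FibCat.fpFst u f).map eb.inv)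
  let m : ηa ⟶ ηb := ea.inv ≫ e.map t ≫ eb.hom
  have hm : (FibCat.fpFst u f).map m = 𝟙 o := by
    have hm' : (FibCat.fpFst u f).map m =
        (FibCat.fpFst u f).map ea.inv ≫ (FibCat.fpFst u f).map (e.map t) ≫ (FibCat.fpFst u f).map eb.hom := by
      simp only [m, Functor.map_comp]
    rw [hm', show (FibCat.fpFst u f).map (e.map t) = _ from ht]
    simp only [Category.assoc, ← Functor.map_comp_assoc, ← Functor.map_comp, Iso.inv_hom_id, Functor.map_id]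
    exact Category.comp_id _
  have hm1 : m.hom.fst = 𝟙 o := hm
  haveI : (AlgSt.ofSch U).p.IsHomLift (𝟙 U) m.hom.fst := by rw [hm1]; exact IsHomLift.id rfl
  haveI := isHomLift_of_fst (𝟙 U) m
  haveI := isHomLift_snd (𝟙 U) m
  refine ⟨⟨m.hom.snd, inferInstance⟩, Subtype.ext ?_⟩
  change f.map m.hom.snd = φ₀
  have w := m.hom.w
  change u.map m.hom.fst ≫ kb.hom = ka.hom ≫ f.map m.hom.snd at w
  rw [hm1, show u.map (𝟙 o) = 𝟙 (u.obj o) from u.toFunctor.map_id o] at w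
  rw [← cancel_epi ka.hom]
  refine w.symm.trans ((Category.id_comp _).trans ?_)
  change kb.hom = (kb.hom ≫ (asIso φ₀).inv) ≫ φ₀
  simp

section TwoCart

variable {C : Type*} [Category C] {𝒰 : BasedCategory.{v₁, u₁} C} {𝒱 : BasedCategory.{v₂, u₂} C}
  {𝒲 : BasedCategory.{v₃, u₃} C}

/-- For fully faithful `i` the diagonals of `g` and of `i` followed by `g` form a cartesian square. -/
theorem isTwoCartOver_diag_comp_fullyFaithful [IsFibGrpd 𝒱.p] (i : 𝒰 ⥤ᵇ 𝒱) (g : 𝒱 ⥤ᵇ 𝒲) [i.toFunctor.Full]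
    [i.toFunctor.Faithful] :
    IsTwoCartOver
      (F := (fpLift (BasedFunctor.comp (FibCat.fpFst (BasedFunctor.comp i g) (BasedFunctor.comp i g)) i)
        (BasedFunctor.comp (FibCat.fpSnd (BasedFunctor.comp i g) (BasedFunctor.comp i g)) i)
        (fpIso (BasedFunctor.comp i g) (BasedFunctor.comp i g))))
      (G := diag g) (diag (BasedFunctor.comp i g)) i (Iso.refl _) := by
  let L := fpLift (F := (fpLift (BasedFunctor.comp (FibCat.fpFst (BasedFunctor.comp i g) (BasedFunctor.comp i g)) i)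
        (BasedFunctor.comp (FibCat.fpSnd (BasedFunctor.comp i g) (BasedFunctor.comp i g)) i)
        (fpIso (BasedFunctor.comp i g) (BasedFunctor.comp i g))))
      (G := diag g) (diag (BasedFunctor.comp i g)) i (Iso.refl _)
  change IsEquivOver L
  haveI : L.toFunctor.Faithful := ⟨fun {a b} x y h =>
    i.toFunctor.map_injective (congrArg (fun t => t.hom.snd) h)⟩
  haveI : L.toFunctor.Full := ⟨fun {a b} m => by
    obtain ⟨θ, hθ⟩ := i.toFunctor.map_surjective m.hom.snd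
    refine ⟨θ, fp_hom_ext (fp_hom_ext ?_ ?_) hθ⟩
    · apply i.toFunctor.map_injective
      have w := congrArg (fun t => t.hom.fst) m.hom.w
      change i.map m.hom.fst.hom.fst ≫ 𝟙 _ = 𝟙 _ ≫ m.hom.snd at w
      erw [Category.comp_id, Category.id_comp] at w
      change i.map θ = i.map m.hom.fst.hom.fst
      rw [hθ, w]
    · apply i.toFunctor.map_injective
      have w := congrArg (fun t => t.hom.snd) m.hom.w
      change i.map m.hom.fst.hom.snd ≫ 𝟙 _ = 𝟙 _ ≫ m.hom.snd at w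
      erw [Category.comp_id, Category.id_comp] at w
      change i.map θ = i.map m.hom.fst.hom.snd
      rw [hθ, w]⟩
  refine isEquivOver_of_vertEssSurj L fun ξ => ?_
  let a := ξ.obj.fst.obj.fst
  let b := ξ.obj.fst.obj.snd
  let α : i.obj a ≅ ξ.obj.snd := fstIso ξ.obj.iso
  let β : i.obj b ≅ ξ.obj.snd := sndIso ξ.obj.iso
  let θ : a ≅ b := i.toFunctor.preimageIso (α ≪≫ β.symm)
  have hθ : i.map θ.hom ≫ β.hom = α.hom := by
    simp [θ]
  have wiso : g.map α.hom ≫ 𝟙 _ = ξ.obj.fst.obj.iso.hom ≫ g.map β.hom := ξ.obj.iso.hom.hom.w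
  let e₁ : (diag (BasedFunctor.comp i g)).obj a ≅ ξ.obj.fst :=
    fpIsoMk (x := (diag (BasedFunctor.comp i g)).obj a) (Iso.refl a) θ (by
      change g.map (i.map (𝟙 a)) ≫ ξ.obj.fst.obj.iso.hom = 𝟙 (g.obj (i.obj a)) ≫ g.map (i.map θ.hom)
      rw [i.toFunctor.map_id, g.toFunctor.map_id]
      erw [Category.id_comp, Category.id_comp]
      rw [← cancel_mono (g.map β.hom), ← wiso, ← g.toFunctor.map_comp, hθ]
      exact Category.comp_id _)
  let e : L.obj a ≅ ξ := fpIsoMk (x := L.obj a) e₁ α (fp_hom_ext (by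
      change i.map (𝟙 a) ≫ α.hom = 𝟙 (i.obj a) ≫ α.hom
      rw [i.toFunctor.map_id]) (by
      change i.map θ.hom ≫ β.hom = 𝟙 (i.obj a) ≫ α.hom
      rw [hθ]; exact (Category.id_comp _).symm))
  refine ⟨a, e, ?_⟩
  haveI : 𝒰.p.IsHomLift (𝟙 (𝒰.p.obj a)) e₁.hom.hom.fst := IsHomLift.id rfl
  haveI : (fp (BasedFunctor.comp i g) (BasedFunctor.comp i g)).p.IsHomLift (𝟙 (𝒰.p.obj a)) e.hom.hom.fst :=
    isHomLift_of_fst (𝟙 (𝒰.p.obj a)) e₁.hom
  exact isHomLift_of_fst (𝟙 (𝒰.p.obj a)) e.hom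

end TwoCart

end AlgStBig
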