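import Groth.Agent.AlgStBig.Rows5
import Groth.Prelude.Def_AlgSt4

/-!
# Points of categories fibred in groupoids
-/

set_option autoImplicit false
set_option linter.style.haveILetI false
set_option backward.isDefEq.respectTransparency false
set_option backward.isDefEq.respectTransparency.types false

universe w'' v'' w' v' w v u

open CategoryTheory CategoryTheory.Limits AlgebraicGeometry Opposite AlgSp FibCat FibLib AlgSpLib

noncomputable section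

namespace AlgStBig
open AlgStLib

variable {S : Scheme.{u}} {𝒳 : BasedCategory.{v, w} (Over S)} {𝒴 : BasedCategory.{v', w'} (Over S)}
  {𝒵 : BasedCategory.{v'', w''} (Over S)}

/-- Two field extensions over `S` of the same field are dominated by a third one. -/
lemma exists_amalg {K L₁ L₂ : Type u} [Field K] [Field L₁] [Field L₂] {w : Spec (.of K) ⟶ S}
    {w₁ : Spec (.of L₁) ⟶ S} {w₂ : Spec (.of L₂) ⟶ S} (β₁ : Over.mk w₁ ⟶ Over.mk w)
    (β₂ : Over.mk w₂ ⟶ Over.mk w) :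
    ∃ (Ω : Type u) (_ : Field Ω) (w' : Spec (.of Ω) ⟶ S) (d₁ : Over.mk w' ⟶ Over.mk w₁)
      (d₂ : Over.mk w' ⟶ Over.mk w₂), d₁ ≫ β₁ = d₂ ≫ β₂ := by
  obtain ⟨Ω, _, i₁, i₂, hi⟩ :=
    AlgSp.FieldPt.exists_amalgamation (Spec.preimage β₁.left).hom (Spec.preimage β₂.left).hom
  have hL : Spec.map (CommRingCat.ofHom i₁) ≫ β₁.left = Spec.map (CommRingCat.ofHom i₂) ≫ β₂.left := by
    conv_lhs => rw [← Spec.map_preimage β₁.left]
    conv_rhs => rw [← Spec.map_preimage β₂.left]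
    rw [← Spec.map_comp, ← Spec.map_comp]
    congr 1
    exact CommRingCat.hom_ext hi
  let w' : Spec (CommRingCat.of Ω) ⟶ S := Spec.map (CommRingCat.ofHom i₁) ≫ w₁
  have e₁ : β₁.left ≫ w = w₁ := Over.w β₁
  have e₂ : β₂.left ≫ w = w₂ := Over.w β₂
  have hw : Spec.map (CommRingCat.ofHom i₂) ≫ w₂ = w' := by
    change _ ≫ w₂ = Spec.map (CommRingCat.ofHom i₁) ≫ w₁
    rw [← e₁, ← e₂, ← Category.assoc, ← Category.assoc, hL]
  exact ⟨Ω, inferInstance, w', Over.homMk (Spec.map (CommRingCat.ofHom i₁)) rfl,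
    Over.homMk (Spec.map (CommRingCat.ofHom i₂)) hw, Over.OverMorphism.ext (by simpa using hL)⟩

/-- The morphism between the spectra under a morphism of field-valued points. -/
def baseHom {p q : AlgSt.FPt 𝒳} (a : p.obj ⟶ q.obj) : Over.mk p.str ⟶ Over.mk q.str :=
  eqToHom p.lies.symm ≫ 𝒳.p.map a ≫ eqToHom q.lies

lemma isHomLift_baseHom {p q : AlgSt.FPt 𝒳} (a : p.obj ⟶ q.obj) : 𝒳.p.IsHomLift (baseHom a) a :=
  IsHomLift.of_fac _ _ _ p.lies q.lies rfl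

section Equivalence

variable [IsFibGrpd 𝒳.p]

theorem equivalence_rel : _root_.Equivalence (@AlgSt.FPt.Rel S 𝒳) := by
  refine ⟨fun p => ⟨p, 𝟙 _, 𝟙 _, trivial⟩, fun ⟨r, a, b, _⟩ => ⟨r, b, a, trivial⟩, ?_⟩
  rintro p q s ⟨r₁, a₁, b₁, -⟩ ⟨r₂, b₂, c₂, -⟩
  obtain ⟨Ω, _, w', d₁, d₂, hd⟩ := exists_amalg (baseHom b₁) (baseHom b₂)
  obtain ⟨b, φ, hφ⟩ := exists_lift 𝒳.p r₁.lies d₁
  haveI := isHomLift_baseHom b₁
  haveI := isHomLift_baseHom b₂
  haveI : 𝒳.p.IsStronglyCartesian (baseHom b₂) b₂ :=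
    (isStronglyCartesian_map_iff 𝒳.p (baseHom b₂) b₂).mp (IsFibGrpd.isStronglyCartesian b₂)
  haveI : 𝒳.p.IsHomLift (d₂ ≫ baseHom b₂) (φ ≫ b₁) := hd ▸ inferInstance
  obtain ⟨χ, ⟨hχ, -⟩, -⟩ := Functor.IsStronglyCartesian.universal_property 𝒳.p (baseHom b₂) b₂
    d₂ _ rfl (φ ≫ b₁)
  exact ⟨{ K := Ω, str := w', obj := b, lies := IsHomLift.domain_eq 𝒳.p d₁ φ }, φ ≫ a₁, χ ≫ c₂, trivial⟩

theorem mk_eq_mk_iff {p q : AlgSt.FPt 𝒳} :
    AlgSt.Points.mk p = AlgSt.Points.mk q ↔ AlgSt.FPt.Rel p q :=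
  ⟨fun h => equivalence_rel.eqvGen_iff.mp (Quot.eqvGen_exact h), AlgSt.Points.sound⟩

end Equivalence

/-- A morphism of field-valued points identifies them. -/
lemma mk_eq_of_hom {p q : AlgSt.FPt 𝒳} (a : p.obj ⟶ q.obj) : AlgSt.Points.mk p = AlgSt.Points.mk q :=
  AlgSt.Points.sound ⟨p, 𝟙 _, a, trivial⟩

theorem map_comp (f : 𝒳 ⥤ᵇ 𝒴) (g : 𝒴 ⥤ᵇ 𝒵) (x : AlgSt.Points 𝒳) :
    AlgSt.Points.map (BasedFunctor.comp f g) x = AlgSt.Points.map g (AlgSt.Points.map f x) := by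
  obtain ⟨p, rfl⟩ := AlgSt.Points.mk_surjective x
  rfl

theorem map_id (x : AlgSt.Points 𝒳) : AlgSt.Points.map (BasedFunctor.id 𝒳) x = x := by
  obtain ⟨p, rfl⟩ := AlgSt.Points.mk_surjective x
  rfl

theorem map_congr {f g : 𝒳 ⥤ᵇ 𝒴} (α : f ≅ g) : AlgSt.Points.map f = AlgSt.Points.map g := by
  funext x
  obtain ⟨p, rfl⟩ := AlgSt.Points.mk_surjective x
  exact mk_eq_of_hom (p := p.map f) (q := p.map g) (appIso α p.obj).hom

theorem map_bijective_of_isEquivOver {e : 𝒳 ⥤ᵇ 𝒴} (he : IsEquivOver e) :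
    Function.Bijective (AlgSt.Points.map e) := by
  obtain ⟨G, ⟨α⟩, ⟨β⟩⟩ := he
  refine Function.bijective_iff_has_inverse.mpr ⟨AlgSt.Points.map G, fun x => ?_, fun y => ?_⟩
  · rw [← map_comp, map_congr α, map_id]
  · rw [← map_comp, map_congr β, map_id]

section Fp

variable {f : 𝒳 ⥤ᵇ 𝒴} {g : 𝒵 ⥤ᵇ 𝒴}

/-- Two points with the same image give a point of the fibre product. -/
theorem exists_point_fp [IsFibGrpd 𝒳.p] [IsFibGrpd 𝒴.p] [IsFibGrpd 𝒵.p] (z : AlgSt.Points 𝒵)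
    (x : AlgSt.Points 𝒳) (h : AlgSt.Points.map g z = AlgSt.Points.map f x) :
    ∃ w : AlgSt.Points (FibCat.fp g f),
      AlgSt.Points.map (FibCat.fpFst g f) w = z ∧ AlgSt.Points.map (FibCat.fpSnd g f) w = x := by
  obtain ⟨P, rfl⟩ := AlgSt.Points.mk_surjective z
  obtain ⟨Q, rfl⟩ := AlgSt.Points.mk_surjective x
  obtain ⟨r, a, b, -⟩ := mk_eq_mk_iff.mp h
  let α : Over.mk r.str ⟶ Over.mk P.str := baseHom a
  let β : Over.mk r.str ⟶ Over.mk Q.str := baseHom b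
  haveI : 𝒴.p.IsHomLift α a := isHomLift_baseHom a
  haveI : 𝒴.p.IsHomLift β b := isHomLift_baseHom b
  obtain ⟨z', φ, hφ⟩ := exists_lift 𝒵.p P.lies α
  obtain ⟨x', ψ, hψ⟩ := exists_lift 𝒳.p Q.lies β
  haveI := g.preserves_isHomLift α φ
  haveI := f.preserves_isHomLift β ψ
  have cart : ∀ {R T : Over S} (k : R ⟶ T) {y₁ y₂ : 𝒴.obj} (m : y₁ ⟶ y₂) [𝒴.p.IsHomLift k m],
      𝒴.p.IsStronglyCartesian k m :=
    fun k _ _ m _ => (isStronglyCartesian_map_iff 𝒴.p k m).mp (IsFibGrpd.isStronglyCartesian m)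
  haveI : 𝒴.p.IsStronglyCartesian α a := cart α a
  haveI : 𝒴.p.IsStronglyCartesian β b := cart β b
  let i₁ := Functor.IsStronglyCartesian.map 𝒴.p α a (g := 𝟙 (Over.mk r.str)) (Category.id_comp α).symm (g.map φ)
  haveI : 𝒴.p.IsHomLift (𝟙 (Over.mk r.str)) i₁ :=
    Functor.IsStronglyCartesian.map_isHomLift 𝒴.p α a (Category.id_comp α).symm (g.map φ)
  let i₂ := Functor.IsStronglyCartesian.map 𝒴.p β b (g := 𝟙 (Over.mk r.str)) (Category.id_comp β).symm (f.map ψ)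
  haveI : 𝒴.p.IsHomLift (𝟙 (Over.mk r.str)) i₂ :=
    Functor.IsStronglyCartesian.map_isHomLift 𝒴.p β b (Category.id_comp β).symm (f.map ψ)
  haveI : IsIso i₁ := isIso_of_isHomLift 𝒴.p (𝟙 (Over.mk r.str)) i₁
  haveI : IsIso i₂ := isIso_of_isHomLift 𝒴.p (𝟙 (Over.mk r.str)) i₂
  let e : g.obj z' ≅ f.obj x' := asIso i₁ ≪≫ (asIso i₂).symm
  have hz' : 𝒵.p.obj z' = Over.mk r.str := IsHomLift.domain_eq 𝒵.p α φ
  have he : 𝒴.p.IsHomLift (𝟙 (𝒵.p.obj z')) e.hom := by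
    rw [hz']
    haveI : 𝒴.p.IsHomLift (𝟙 (Over.mk r.str)) (asIso i₂).inv :=
      @IsHomLift.lift_id_inv _ _ _ _ 𝒴.p _ _ _ (asIso i₂) (by rw [asIso_hom]; infer_instance)
    exact IsHomLift.comp_of_lift_id 𝒴.p (Over.mk r.str) i₁ (asIso i₂).inv
  refine ⟨AlgSt.Points.mk { K := r.K, str := r.str, obj := fpObj z' x' e he, lies := hz' }, ?_, ?_⟩
  · exact mk_eq_of_hom (q := P) φ
  · exact mk_eq_of_hom (q := Q) ψ

theorem map_fpFst_fpSnd (w : AlgSt.Points (FibCat.fp g f)) :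
    AlgSt.Points.map g (AlgSt.Points.map (FibCat.fpFst g f) w) =
      AlgSt.Points.map f (AlgSt.Points.map (FibCat.fpSnd g f) w) := by
  rw [← map_comp, ← map_comp, map_congr (fpIso g f)]

theorem preimage_image_fp [IsFibGrpd 𝒳.p] [IsFibGrpd 𝒴.p] [IsFibGrpd 𝒵.p] (A : Set (AlgSt.Points 𝒳)) :
    AlgSt.Points.map g ⁻¹' (AlgSt.Points.map f '' A) =
      AlgSt.Points.map (FibCat.fpFst g f) '' (AlgSt.Points.map (FibCat.fpSnd g f) ⁻¹' A) := by
  ext z
  constructor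
  · rintro ⟨x, hx, e⟩
    obtain ⟨w, rfl, rfl⟩ := exists_point_fp z x e.symm
    exact ⟨w, hx, rfl⟩
  · rintro ⟨w, hw, rfl⟩
    exact ⟨_, hw, (map_fpFst_fpSnd w).symm⟩

theorem surjective_fpFst [IsFibGrpd 𝒳.p] [IsFibGrpd 𝒴.p] [IsFibGrpd 𝒵.p]
    (hf : Function.Surjective (AlgSt.Points.map f)) :
    Function.Surjective (AlgSt.Points.map (FibCat.fpFst g f)) := fun z => by
  obtain ⟨x, hx⟩ := hf (AlgSt.Points.map g z)
  obtain ⟨w, hw, -⟩ := exists_point_fp z x hx.symm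
  exact ⟨w, hw⟩

end Fp

section Space

variable (F : Sp S)

/-- The field-valued point of the sheaf under a field-valued point of its category of sections. -/
def toFieldPt (p : AlgSt.FPt (AlgSt.ofSp F)) : AlgSp.FieldPt F :=
  { K := p.K, str := p.str, val := F.obj.map (eqToHom p.lies.symm).op p.obj.sec }

/-- The inverse construction. -/
def ofFieldPt (p : AlgSp.FieldPt F) : AlgSt.FPt (AlgSt.ofSp F) :=
  { K := p.K, str := p.str, obj := ⟨Over.mk p.str, p.val⟩, lies := rfl }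

lemma rel_toFieldPt {p q : AlgSt.FPt (AlgSt.ofSp F)} (h : AlgSt.FPt.Rel p q) :
    AlgSp.FieldPt.Rel (toFieldPt F p) (toFieldPt F q) := by
  obtain ⟨r, a, b, -⟩ := h
  refine ⟨r.K, inferInstance, r.str, baseHom a, baseHom b, ?_⟩
  have key : ∀ {p : AlgSt.FPt (AlgSt.ofSp F)} (a : r.obj ⟶ p.obj),
      F.obj.map (baseHom a).op (toFieldPt F p).val = F.obj.map (eqToHom r.lies.symm).op r.obj.sec := by
    intro p a
    change F.obj.map (baseHom a).op (F.obj.map (eqToHom p.lies.symm).op p.obj.sec) = _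
    refine ((Functor.map_comp_apply _ _ _ _).symm.trans ?_).trans (congrArg _ a.map_sec)
    refine Eq.trans ?_ (Functor.map_comp_apply F.obj a.hom.op (eqToHom r.lies.symm).op p.obj.sec)
    refine congrArg (fun t => F.obj.map t p.obj.sec) ?_
    change ((eqToHom r.lies.symm ≫ a.hom ≫ eqToHom p.lies) ≫ eqToHom p.lies.symm).op = (eqToHom r.lies.symm ≫ a.hom).op
    simp
  exact (key a).trans (key b).symm

/-- The points of the category of sections of a sheaf are the points of the sheaf. -/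
def ptsEquiv : AlgSt.Points (AlgSt.ofSp F) ≃ AlgSp.Points F where
  toFun := Quot.lift (fun p => AlgSp.Points.mk (toFieldPt F p)) fun _ _ h => AlgSp.Points.sound (rel_toFieldPt F h)
  invFun := Quotient.lift (fun p => AlgSt.Points.mk (ofFieldPt F p)) (by
    rintro p q ⟨Ω, _, w, a, b, h⟩
    let r : AlgSt.FPt (AlgSt.ofSp F) :=
      { K := Ω, str := w, obj := ⟨Over.mk w, F.obj.map a.op p.val⟩, lies := rfl }
    exact (mk_eq_of_hom (p := r) (q := ofFieldPt F p) ⟨a, rfl⟩).symm.trans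
      (mk_eq_of_hom (p := r) (q := ofFieldPt F q) ⟨b, h.symm⟩))
  left_inv x := by
    obtain ⟨p, rfl⟩ := AlgSt.Points.mk_surjective x
    refine mk_eq_of_hom (p := ofFieldPt F (toFieldPt F p)) (q := p) ⟨eqToHom p.lies.symm, ?_⟩
    rfl
  right_inv x := by
    induction x using AlgSp.Points.ind with
    | h p =>
      change AlgSp.Points.mk (toFieldPt F (ofFieldPt F p)) = AlgSp.Points.mk p
      congr 1
      simp [toFieldPt, ofFieldPt]
      rfl

variable {F} {G : Sp S}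

lemma ptsEquiv_symm_mk (p : AlgSp.FieldPt F) :
    (ptsEquiv F).symm (AlgSp.Points.mk p) = AlgSt.Points.mk (ofFieldPt F p) := rfl

theorem map_ofPshMap_ptsEquiv_symm (a : F ⟶ G) (x : AlgSp.Points F) :
    AlgSt.Points.map (Stk.ofPshMap a.hom) ((ptsEquiv F).symm x) = (ptsEquiv G).symm (AlgSp.Points.map a x) := by
  induction x using AlgSp.Points.ind with
  | h p => rfl

theorem ptsEquiv_map (a : F ⟶ G) (x : AlgSt.Points (AlgSt.ofSp F)) :
    ptsEquiv G (AlgSt.Points.map (Stk.ofPshMap a.hom) x) = AlgSp.Points.map a (ptsEquiv F x) := by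
  obtain ⟨y, rfl⟩ := (ptsEquiv F).symm.surjective x
  rw [map_ofPshMap_ptsEquiv_symm, Equiv.apply_symm_apply, Equiv.apply_symm_apply]

/-- The points of the sheaf through the category of its sections. -/
def ptMap (u : AlgSt.ofSp F ⥤ᵇ 𝒳) : AlgSp.Points F → AlgSt.Points 𝒳 :=
  fun x => AlgSt.Points.map u ((ptsEquiv F).symm x)

lemma map_eq_ptMap (u : AlgSt.ofSp F ⥤ᵇ 𝒳) :
    AlgSt.Points.map u = ptMap u ∘ ptsEquiv F :=
  funext fun x => by simp [ptMap]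

lemma ptMap_comp (a : F ⟶ G) (u : AlgSt.ofSp G ⥤ᵇ 𝒳) :
    ptMap (BasedFunctor.comp (Stk.ofPshMap a.hom) u) = ptMap u ∘ AlgSp.Points.map a :=
  funext fun x => by simp [ptMap, map_comp, map_ofPshMap_ptsEquiv_symm]

lemma ofChart_eq {U : Over S} (x : overCat U ⥤ᵇ 𝒳) :
    AlgSt.Points.ofChart x = ptMap (BasedFunctor.comp (AlgSt.toOverCat U) x) ∘ AlgSp.Points.schemeHomeo U :=
  rfl

theorem ofChart_congr {U : Over S} {x y : overCat U ⥤ᵇ 𝒳} (α : x ≅ y) :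
    AlgSt.Points.ofChart x = AlgSt.Points.ofChart y := by
  rw [ofChart_eq, ofChart_eq]
  unfold ptMap
  rw [map_congr (whiskerLeftIso' (AlgSt.toOverCat U) α)]

theorem ofChart_comp {U : Over S} (x : overCat U ⥤ᵇ 𝒳) (f : 𝒳 ⥤ᵇ 𝒴) :
    AlgSt.Points.ofChart (BasedFunctor.comp x f) = AlgSt.Points.map f ∘ AlgSt.Points.ofChart x :=
  funext fun _ => rfl

/-- The image under a base change. -/
theorem preimage_image_along [IsFibGrpd 𝒳.p] [IsFibGrpd 𝒴.p] {f : 𝒳 ⥤ᵇ 𝒴} {H : Sp S} {u : AlgSt.ofSp G ⥤ᵇ 𝒴}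
    {a : H ⟶ G} (ha : Along u f a.hom) :
    ∃ v : AlgSt.ofSp H ⥤ᵇ 𝒳, ∀ A : Set (AlgSt.Points 𝒳),
      ptMap u ⁻¹' (AlgSt.Points.map f '' A) = AlgSp.Points.map a '' (ptMap v ⁻¹' A) := by
  obtain ⟨e, he, ⟨β⟩⟩ := ha
  refine ⟨BasedFunctor.comp e (FibCat.fpSnd u f), fun A => ?_⟩
  have hb := map_bijective_of_isEquivOver he
  ext y
  change (ptsEquiv G).symm y ∈ AlgSt.Points.map u ⁻¹' (AlgSt.Points.map f '' A) ↔ _
  rw [preimage_image_fp]
  constructor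
  · rintro ⟨w, hw, hwy⟩
    obtain ⟨h, rfl⟩ := hb.2 w
    refine ⟨ptsEquiv H h, ?_, ?_⟩
    · simp only [Set.mem_preimage, ptMap, Equiv.symm_apply_apply, map_comp]
      exact hw
    · apply (ptsEquiv G).symm.injective
      rw [← map_ofPshMap_ptsEquiv_symm, Equiv.symm_apply_apply, ← hwy, ← map_comp, map_congr β]
  · rintro ⟨h, hh, rfl⟩
    refine ⟨AlgSt.Points.map e ((ptsEquiv H).symm h), ?_, ?_⟩
    · simp only [Set.mem_preimage, ptMap, map_comp] at hh ⊢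
      exact hh
    · rw [← map_ofPshMap_ptsEquiv_symm, ← map_comp, map_congr β]

end Space

end AlgStBig
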