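import Groth.Agent.AlgStBig.PointsTop
import Groth.Agent.AlgSpLib.Qc

/-!
# Quasi-compactness and the space of points
-/

set_option autoImplicit false
set_option linter.style.haveILetI false
set_option backward.isDefEq.respectTransparency false
set_option backward.isDefEq.respectTransparency.types false

universe vv1 ww1
universe u

open CategoryTheory CategoryTheory.Limits AlgebraicGeometry Opposite AlgSp FibCat FibLib AlgSpLib Topology

noncomputable section

namespace AlgStBig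
open AlgStLib

variable {S : Scheme.{u}} {𝒳 : BasedCategory.{vv1, ww1} (Over S)}

lemma repByAlgSpWith_overMap {P : MorphismProperty (Sp S)} (hP : StableBC P) {U V : Over S} (j : U ⟶ V)
    (h : P ((yon S).map j)) : AlgSt.RepByAlgSpWith P (AlgSt.overMap j) := by
  refine (repByAlgSpWith_square_iff (f := AlgSt.overMap j) (f' := AlgSt.ofSpMap ((yon S).map j))
    (a := AlgSt.toOverCat U) (b := AlgSt.toOverCat V) (isEquivOver_toOverCat U) (isEquivOver_toOverCat V)
    (Iso.refl _) P).mpr ?_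
  exact repByAlgSpWith_ofSpMap (IsAlgSpace.yon_obj U) (IsAlgSpace.yon_obj V) _ fun W ξ =>
    hP (IsAlgSpace.yon_obj U) (IsAlgSpace.yon_obj V)
      (isAlgSpace_pullback (IsAlgSpace.yon_obj U) (IsAlgSpace.yon_obj W) (IsAlgSpace.yon_obj V) _ ξ)
      (IsAlgSpace.yon_obj W) _ ξ _ _ (IsPullback.of_hasPullback _ ξ) h

lemma ofChart_overMap {U V : Over S} (j : U ⟶ V) (x : overCat V ⥤ᵇ 𝒳) :
    AlgSt.Points.ofChart (BasedFunctor.comp (AlgSt.overMap j) x) =
      AlgSt.Points.ofChart x ∘ j.left := by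
  funext t
  rw [ofChart_eq, ofChart_eq]
  have e : BasedFunctor.comp (AlgSt.toOverCat U) (BasedFunctor.comp (AlgSt.overMap j) x) =
      BasedFunctor.comp (Stk.ofPshMap ((yon S).map j).hom) (BasedFunctor.comp (AlgSt.toOverCat V) x) := rfl
  rw [e, ptMap_comp]
  simp only [Function.comp_apply]
  congr 1
  exact Points.map_yon_map_apply j t

theorem compactSpace_of_isQuasiCompact [IsFibGrpd 𝒳.p] (hA : AlgSt.HasAtlas (LocP @Smooth) 𝒳)
    (h : AlgSt.IsQuasiCompact 𝒳) : CompactSpace (AlgSt.Points 𝒳) := by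
  obtain ⟨U, x, hU, hx, hxs⟩ := h
  haveI := hU
  exact ⟨(surjective_ofChart hxs).range_eq ▸ isCompact_range (continuous_ofChart hA x)⟩

theorem isQuasiCompact_of_compactSpace [IsFibGrpd 𝒳.p] (hA : AlgSt.HasAtlas (LocP @Smooth) 𝒳)
    (h : CompactSpace (AlgSt.Points 𝒳)) : AlgSt.IsQuasiCompact 𝒳 := by
  obtain ⟨U, x, hx, hxs⟩ := id hA
  choose O hO htO using fun t : U.left => exists_isAffineOpen_mem_and_subset (U := ⊤) (x := t) trivial
  obtain ⟨s, hs⟩ := isCompact_univ.elim_finite_subcover (fun t => AlgSt.Points.ofChart x '' (O t : Set U.left))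
    (fun t => isOpenMap_ofChart_smooth x hx _ (O t).2) fun z _ => by
      obtain ⟨t, rfl⟩ := surjective_ofChart hxs z
      exact Set.mem_iUnion.2 ⟨t, t, (htO t).1, rfl⟩
  let g : {t // t ∈ s} → Scheme.{u} := fun t => (O t.1).toScheme
  let k : ∐ g ⟶ U.left := Sigma.desc fun t => (O t.1).ι
  haveI : Etale k := IsZariskiLocalAtSource.sigmaDesc (P := @Etale) fun t => inferInstance
  haveI : ∀ t, IsAffine (g t) := fun t => hO t.1
  let U' : Over S := Over.mk (k ≫ U.hom)
  let j : U' ⟶ U := Over.homMk k rfl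
  have hj : LocP @Smooth ((yon S).map j) := locP_smooth_of_isEtaleMor (isEtaleMor_of_repWith
    ((repWith_yon_map_iff (P := (@Etale : MorphismProperty Scheme.{u})) j).2 (inferInstanceAs (Etale k))))
  haveI := isFibGrpd_overCat U
  haveI := isFibGrpd_overCat U'
  have hx' := repByAlgSpWith_comp' good_smooth (repByAlgSpWith_overMap good_smooth.bc j hj) hx
  refine ⟨U', BasedFunctor.comp (AlgSt.overMap j) x, inferInstanceAs (IsAffine (∐ g)), hx', ?_⟩
  refine (surjective_iff_repByAlgSpWith (repByAlgSp1_of_with hx')).mp fun z => ?_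
  obtain ⟨t, ht, v, hv, rfl⟩ := Set.mem_iUnion₂.1 (hs (Set.mem_univ z))
  have e : k (Sigma.ι g ⟨t, ht⟩ ⟨v, hv⟩) = v := by
    rw [← Scheme.Hom.comp_apply]
    simp [k]
    rfl
  have : AlgSt.Points.ofChart x v ∈ Set.range (AlgSt.Points.ofChart (BasedFunctor.comp (AlgSt.overMap j) x)) :=
    ⟨Sigma.ι g ⟨t, ht⟩ ⟨v, hv⟩, by
      rw [ofChart_overMap]
      exact congrArg (AlgSt.Points.ofChart x) e⟩
  rw [range_ofChart, range_ptMap] at this
  obtain ⟨w, hw⟩ := this
  exact ⟨AlgSt.Points.map (AlgSt.toOverCat U') w, by rw [← map_comp, hw]⟩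

theorem isQuasiCompact_iff_compactSpace [IsFibGrpd 𝒳.p] (hA : AlgSt.HasAtlas (LocP @Smooth) 𝒳) :
    AlgSt.IsQuasiCompact 𝒳 ↔ CompactSpace (AlgSt.Points 𝒳) :=
  ⟨compactSpace_of_isQuasiCompact hA, isQuasiCompact_of_compactSpace hA⟩

theorem compactSpace_of_space [IsFibGrpd 𝒳.p] (hA : AlgSt.HasAtlas (LocP @Smooth) 𝒳) {F : Sp S}
    (hF : IsAlgSpace F) (hq : IsQuasiCompactSp F) (u : AlgSt.ofSp F ⥤ᵇ 𝒳)
    (hs : AlgSt.RepByAlgSpWith IsSurjectiveMor u) : CompactSpace (AlgSt.Points 𝒳) := by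
  haveI := compactSpace_points_of_isQuasiCompactSp hq
  have hsurj : Function.Surjective (ptMap u) := by
    rw [← Set.range_eq_univ, range_ptMap]
    exact (surjective_of_repByAlgSpWith hs).range_eq
  exact ⟨hsurj.range_eq ▸ isCompact_range (continuous_ptMap hA hF u)⟩

end AlgStBig
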