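import Groth.Agent.AlgStBig.Points
import Groth.Agent.AlgSpLib.Univ
import Mathlib.AlgebraicGeometry.Morphisms.UniversallyOpen

/-!
# The topology on the points of an algebraic stack
-/

set_option autoImplicit false
set_option linter.style.haveILetI false
set_option backward.isDefEq.respectTransparency false
set_option backward.isDefEq.respectTransparency.types false

universe vv1 ww1 vv2 ww2
universe w' v' w v u

open CategoryTheory CategoryTheory.Limits AlgebraicGeometry Opposite AlgSp FibCat FibLib AlgSpLib Topology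

noncomputable section

namespace AlgStBig
open AlgStLib

variable {S : Scheme.{u}}

/-- A flat morphism of spaces, locally of finite presentation, is open on points. -/
theorem isOpenMap_map_of_flat_lfp {F G : Sp S} (hF : IsAlgSpace F) (hG : IsAlgSpace G) {f : F ⟶ G}
    (h₁ : LocP @Flat f) (h₂ : LocP @LocallyOfFinitePresentation f) : IsOpenMap (Points.map f) := by
  obtain ⟨V, p, hp, hps⟩ := hG.atlas
  have sq := IsPullback.of_hasPullback f p
  have hV := IsAlgSpace.yon_obj (S := S) V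
  have hH := isAlgSpace_pullback hF hV hG f p
  refine isOpenMap_descend (ι := PUnit.{u + 1}) (c := fun _ => p) (fun _ => sq)
    (fun _ => isOpenMap_map_of_isEtaleMor hV (isEtaleMor_of_repWith hp))
    (fun z => ⟨⟨⟩, map_surjective_of_repWith hps z⟩) fun _ => ?_
  obtain ⟨W, b, hb, hbs⟩ := hH.atlas
  obtain ⟨h, hh⟩ := (yon S).map_surjective (b ≫ pullback.snd f p)
  haveI : Flat h.left := good_flat.bc hF hG hH hV _ _ _ _ sq h₁ b (𝟙 _) h hb (repWith_id _ V)
    (by rw [Category.comp_id, hh])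
  haveI : LocallyOfFinitePresentation h.left := good_lfp.bc hF hG hH hV _ _ _ _ sq h₂ b (𝟙 _) h hb
    (repWith_id _ V) (by rw [Category.comp_id, hh])
  intro O hO
  have : Points.map (pullback.snd f p) '' O = Points.map ((yon S).map h) '' (Points.map b ⁻¹' O) := by
    rw [hh, show Points.map (b ≫ pullback.snd f p) = Points.map (pullback.snd f p) ∘ Points.map b from
      funext (Points.map_comp _ _), Set.image_comp, Set.image_preimage_eq _ (map_surjective_of_repWith hbs)]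
  rw [this]
  exact (isOpenMap_map_yon_iff h).2 h.left.isOpenMap _ (hO.preimage (Points.continuous_map b))

lemma locP_flat_of_smooth {F G : Sp S} {f : F ⟶ G} (h : LocP @Smooth f) : LocP @Flat f :=
  locP_mono (fun _ _ g (_ : Smooth g) => (inferInstance : Flat g)) h

lemma locP_lfp_of_smooth {F G : Sp S} {f : F ⟶ G} (h : LocP @Smooth f) : LocP @LocallyOfFinitePresentation f :=
  locP_mono (fun _ _ g (_ : Smooth g) => (inferInstance : LocallyOfFinitePresentation g)) h

variable {𝒳 : BasedCategory.{vv1, ww1} (Over S)} {𝒴 : BasedCategory.{vv2, ww2} (Over S)}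

/-- A chart in the form of a functor from the sheaf of the scheme. -/
lemma repByAlgSpWith_toOverCat_comp {P : MorphismProperty (Sp S)} {U : Over S} {x : overCat U ⥤ᵇ 𝒳}
    (hx : AlgSt.RepByAlgSpWith P x) : AlgSt.RepByAlgSpWith P (BasedFunctor.comp (AlgSt.toOverCat U) x) :=
  (repByAlgSpWith_square_iff (f := x) (f' := BasedFunctor.comp (AlgSt.toOverCat U) x) (a := AlgSt.toOverCat U)
    (b := BasedFunctor.id _) (isEquivOver_toOverCat U) (isEquivOver_id _) (Iso.refl _) P).mp hx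

lemma ofChart_preimage {U : Over S} (x : overCat U ⥤ᵇ 𝒳) (A : Set (AlgSt.Points 𝒳)) :
    AlgSt.Points.ofChart x ⁻¹' A =
      Points.schemeHomeo U ⁻¹' (ptMap (BasedFunctor.comp (AlgSt.toOverCat U) x) ⁻¹' A) := rfl

lemma range_ofChart {U : Over S} (x : overCat U ⥤ᵇ 𝒳) :
    Set.range (AlgSt.Points.ofChart x) = Set.range (ptMap (BasedFunctor.comp (AlgSt.toOverCat U) x)) := by
  rw [ofChart_eq]
  exact (Points.schemeHomeo U).surjective.range_comp _

lemma range_ptMap {F : Sp S} (u : AlgSt.ofSp F ⥤ᵇ 𝒳) : Set.range (ptMap u) = Set.range (AlgSt.Points.map u) :=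
  (ptsEquiv F).symm.surjective.range_comp _

/-- Every point lies on a chart by the spectrum of a field. -/
lemma exists_mem_range_ptMap [IsFibGrpd 𝒳.p] (z : AlgSt.Points 𝒳) :
    ∃ (T : Over S) (u : AlgSt.ofSch T ⥤ᵇ 𝒳), z ∈ Set.range (ptMap u) := by
  obtain ⟨p, rfl⟩ := AlgSt.Points.mk_surjective z
  let x : 𝒳.p.Fiber (Over.mk p.str) := Functor.Fiber.mk (p := 𝒳.p) p.lies
  refine ⟨Over.mk p.str, BasedFunctor.comp (AlgSt.toOverCat _) (ofPoint x), ?_⟩
  obtain ⟨k⟩ := nonempty_evalAtId_ofPoint_iso x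
  rw [range_ptMap]
  let o : (AlgSt.ofSch (Over.mk p.str)).obj := ⟨Over.mk p.str, ⟨𝟙 _⟩⟩
  exact ⟨AlgSt.Points.mk { K := p.K, str := p.str, obj := o, lies := rfl }, mk_eq_of_hom (q := p) k.hom.1⟩

lemma ptMap_toOver {H : Sp S} {F : Sp S} (v : AlgSt.ofSp H ⥤ᵇ AlgSt.ofSp F) :
    ∃ m : H ⟶ F, AlgSt.Points.map v = (ptsEquiv F).symm ∘ Points.map m ∘ ptsEquiv H := by
  obtain ⟨α⟩ := nonempty_iso_mapOf v
  refine ⟨ObjectProperty.homMk (mapOf v), ?_⟩
  rw [map_congr α]
  funext x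
  obtain ⟨y, rfl⟩ := (ptsEquiv H).symm.surjective x
  simp only [Function.comp_apply, Equiv.apply_symm_apply]
  exact map_ofPshMap_ptsEquiv_symm (ObjectProperty.homMk (mapOf v)) y

theorem surjective_of_repByAlgSpWith [IsFibGrpd 𝒳.p] [IsFibGrpd 𝒴.p] {f : 𝒳 ⥤ᵇ 𝒴}
    (hf : AlgSt.RepByAlgSpWith IsSurjectiveMor f) : Function.Surjective (AlgSt.Points.map f) := fun z => by
  obtain ⟨T, u, y, rfl⟩ := exists_mem_range_ptMap z
  obtain ⟨H, a, hH, ha, hPa⟩ := (repByAlgSpWith_iff _ f).mp hf T u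
  obtain ⟨v, hv⟩ := preimage_image_along ha
  have : y ∈ ptMap u ⁻¹' (AlgSt.Points.map f '' Set.univ) := by
    rw [hv, Set.preimage_univ, Set.image_univ]; exact hPa y
  obtain ⟨x, -, hx⟩ := this
  exact ⟨x, hx⟩

theorem surjective_iff_repByAlgSpWith [IsFibGrpd 𝒳.p] [IsFibGrpd 𝒴.p] {f : 𝒳 ⥤ᵇ 𝒴}
    (hf : AlgSt.RepByAlgSp1 f) :
    Function.Surjective (AlgSt.Points.map f) ↔ AlgSt.RepByAlgSpWith IsSurjectiveMor f := by
  refine ⟨fun h => repByAlgSpWith_of_forall hf fun U u H a _ ha y => ?_, surjective_of_repByAlgSpWith⟩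
  obtain ⟨v, hv⟩ := preimage_image_along ha
  have : y ∈ ptMap u ⁻¹' (AlgSt.Points.map f '' Set.univ) := by
    rw [Set.image_univ, h.range_eq]; trivial
  rw [hv] at this
  obtain ⟨x, -, hx⟩ := this
  exact ⟨x, hx⟩

/-- With an atlas, every map from a space is continuous on points. -/
theorem continuous_ptMap [IsFibGrpd 𝒳.p] (h : AlgSt.HasAtlas (LocP @Smooth) 𝒳) {G : Sp S}
    (hG : IsAlgSpace G) (u : AlgSt.ofSp G ⥤ᵇ 𝒳) : Continuous (ptMap u) := by
  obtain ⟨V, x, hx, hxs⟩ := h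
  haveI := isFibGrpd_overCat V
  let x' := BasedFunctor.comp (AlgSt.toOverCat V) x
  refine continuous_def.2 fun W hW => ?_
  obtain ⟨H, b, hH, hb, hb₁⟩ :=
    exists_along_test good_smooth.bc good_smooth.test (repByAlgSpWith_toOverCat_comp hx) hG u
  obtain ⟨v, hv⟩ := preimage_image_along hb
  obtain ⟨m, hm⟩ := ptMap_toOver v
  have hWr : W = AlgSt.Points.map x' '' (AlgSt.Points.map x' ⁻¹' W) :=
    (Set.image_preimage_eq _ (surjective_of_repByAlgSpWith (repByAlgSpWith_toOverCat_comp hxs))).symm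
  rw [hWr, hv]
  refine isOpenMap_map_of_flat_lfp hH hG (locP_flat_of_smooth hb₁) (locP_lfp_of_smooth hb₁) _ ?_
  have : ptMap v ⁻¹' (AlgSt.Points.map x' ⁻¹' W) = Points.map m ⁻¹' (ptMap x' ⁻¹' W) := by
    ext y
    simp [ptMap, hm]
  rw [this]
  refine IsOpen.preimage (Points.continuous_map m) ?_
  have := hW V x hx
  rw [ofChart_preimage, (Points.schemeHomeo V).isOpen_preimage] at this
  exact this

theorem continuous_ofChart [IsFibGrpd 𝒳.p] (h : AlgSt.HasAtlas (LocP @Smooth) 𝒳) {U : Over S}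
    (x : overCat U ⥤ᵇ 𝒳) : Continuous (AlgSt.Points.ofChart x) := by
  rw [ofChart_eq]
  exact (continuous_ptMap h (IsAlgSpace.yon_obj U) _).comp (Points.schemeHomeo U).continuous

theorem continuous_map [IsFibGrpd 𝒴.p] (h : AlgSt.HasAtlas (LocP @Smooth) 𝒴) (f : 𝒳 ⥤ᵇ 𝒴) :
    Continuous (AlgSt.Points.map f) := by
  refine continuous_def.2 fun W hW U x _ => ?_
  rw [← Set.preimage_comp, ← ofChart_comp]
  exact hW.preimage (continuous_ofChart h _)

theorem isOpenMap_ptMap [IsFibGrpd 𝒳.p] {G : Sp S} (hG : IsAlgSpace G) (u : AlgSt.ofSp G ⥤ᵇ 𝒳)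
    (hu₁ : AlgSt.RepByAlgSpWith (LocP @Flat) u)
    (hu₂ : AlgSt.RepByAlgSpWith (LocP @LocallyOfFinitePresentation) u) : IsOpenMap (ptMap u) := by
  intro O hO U x _
  rw [ofChart_preimage, (Points.schemeHomeo U).isOpen_preimage]
  obtain ⟨H, b, hH, hb, hb₁⟩ := (repByAlgSpWith_iff _ u).mp hu₁ U (BasedFunctor.comp (AlgSt.toOverCat U) x)
  have hb₂ := prop_of_along good_lfp.bc.precomp_iso hu₂ hb
  obtain ⟨v, hv⟩ := preimage_image_along hb
  have hO' : ptMap u '' O = AlgSt.Points.map u '' ((ptsEquiv G) ⁻¹' O) := by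
    rw [← Equiv.image_symm_eq_preimage, ← Set.image_comp]; rfl
  rw [hO', hv]
  refine isOpenMap_map_of_flat_lfp hH (IsAlgSpace.yon_obj U) hb₁ hb₂ _ ?_
  obtain ⟨m, hm⟩ := ptMap_toOver v
  have : ptMap v ⁻¹' ((ptsEquiv G) ⁻¹' O) = Points.map m ⁻¹' O := by
    ext y
    simp [ptMap, hm]
  rw [this]
  exact hO.preimage (Points.continuous_map m)

lemma hasAtlas_ofSp {F : Sp S} (hF : IsAlgSpace F) : AlgSt.HasAtlas (LocP @Smooth) (AlgSt.ofSp F) := by
  haveI : IsFibGrpd (AlgSt.ofSp F).p := Stk.isFibGrpd_ofPsh _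
  exact exists_space_chart (repByAlgSp_ofSp hF) good_smooth.bc fun _ _ _ h => locP_smooth_of_isEtaleMor h

/-- The points of a space, as a stack and as a sheaf, are homeomorphic. -/
def ptsHomeo {F : Sp S} (hF : IsAlgSpace F) : AlgSt.Points (AlgSt.ofSp F) ≃ₜ Points F where
  toEquiv := ptsEquiv F
  continuous_invFun := by
    have := continuous_ptMap (hasAtlas_ofSp hF) hF (BasedFunctor.id _)
    convert this using 1
    funext x
    exact (map_id _).symm
  continuous_toFun := by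
    obtain ⟨U, p, hp, hps⟩ := hF.atlas
    refine continuous_def.2 fun W hW => ?_
    intro V x _
    obtain ⟨α⟩ := nonempty_iso_mapOf (BasedFunctor.comp (AlgSt.toOverCat V) x)
    rw [ofChart_preimage, (Points.schemeHomeo V).isOpen_preimage]
    let g : (yon S).obj V ⟶ F := ObjectProperty.homMk (mapOf (BasedFunctor.comp (AlgSt.toOverCat V) x))
    have e : ptMap (BasedFunctor.comp (AlgSt.toOverCat V) x) = (ptsEquiv F).symm ∘ Points.map g := by
      funext y
      unfold ptMap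
      rw [map_congr α]
      exact map_ofPshMap_ptsEquiv_symm g y
    rw [e, ← Set.preimage_comp]
    have e2 : ((ptsEquiv F).toFun ∘ (ptsEquiv F).symm ∘ Points.map g) = Points.map g :=
      funext fun y => (ptsEquiv F).apply_symm_apply _
    rw [e2]
    exact hW.preimage (Points.continuous_map g)

theorem isOpenMap_map_of_space [IsFibGrpd 𝒳.p] {G : Sp S} (hG : IsAlgSpace G) (u : AlgSt.ofSp G ⥤ᵇ 𝒳)
    (hu₁ : AlgSt.RepByAlgSpWith (LocP @Flat) u)
    (hu₂ : AlgSt.RepByAlgSpWith (LocP @LocallyOfFinitePresentation) u) : IsOpenMap (AlgSt.Points.map u) := by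
  rw [map_eq_ptMap]
  exact (isOpenMap_ptMap hG u hu₁ hu₂).comp (ptsHomeo hG).isOpenMap

theorem isOpenMap_ofChart [IsFibGrpd 𝒳.p] {U : Over S} (x : overCat U ⥤ᵇ 𝒳)
    (hx₁ : AlgSt.RepByAlgSpWith (LocP @Flat) x)
    (hx₂ : AlgSt.RepByAlgSpWith (LocP @LocallyOfFinitePresentation) x) : IsOpenMap (AlgSt.Points.ofChart x) := by
  rw [ofChart_eq]
  exact (isOpenMap_ptMap (IsAlgSpace.yon_obj U) _ (repByAlgSpWith_toOverCat_comp hx₁)
    (repByAlgSpWith_toOverCat_comp hx₂)).comp (Points.schemeHomeo U).isOpenMap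

theorem surjective_ofChart [IsFibGrpd 𝒳.p] {U : Over S} {x : overCat U ⥤ᵇ 𝒳}
    (hx : AlgSt.RepByAlgSpWith IsSurjectiveMor x) : Function.Surjective (AlgSt.Points.ofChart x) := by
  rw [← Set.range_eq_univ, range_ofChart, range_ptMap]
  exact (surjective_of_repByAlgSpWith (repByAlgSpWith_toOverCat_comp hx)).range_eq

theorem isOpenMap_ofChart_smooth [IsFibGrpd 𝒳.p] {U : Over S} (x : overCat U ⥤ᵇ 𝒳)
    (hx : AlgSt.RepByAlgSpWith (LocP @Smooth) x) : IsOpenMap (AlgSt.Points.ofChart x) :=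
  isOpenMap_ofChart x (repByAlgSpWith_mono (fun _ _ _ _ _ h => locP_flat_of_smooth h) hx)
    (repByAlgSpWith_mono (fun _ _ _ _ _ h => locP_lfp_of_smooth h) hx)

theorem exists_compact_open [IsFibGrpd 𝒳.p] (h : AlgSt.HasAtlas (LocP @Smooth) 𝒳) (z : AlgSt.Points 𝒳)
    {W : Set (AlgSt.Points 𝒳)} (hW : IsOpen W) (hz : z ∈ W) :
    ∃ V : Set (AlgSt.Points 𝒳), IsOpen V ∧ IsCompact V ∧ z ∈ V ∧ V ⊆ W := by
  obtain ⟨U, x, hx, hxs⟩ := id h
  obtain ⟨t, rfl⟩ := surjective_ofChart hxs z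
  have hc := continuous_ofChart h x
  obtain ⟨O, hO, htO, hsub⟩ := TopologicalSpace.Opens.isBasis_iff_nbhd.mp U.left.isBasis_affineOpens
    (U := ⟨_, hW.preimage hc⟩) hz
  exact ⟨_, isOpenMap_ofChart_smooth x hx _ O.2, hO.isCompact.image hc, ⟨t, htO, rfl⟩,
    Set.image_subset_iff.2 hsub⟩

end AlgStBig
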