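import Groth.Agent.AlgStBig.SpaceTest
import Groth.Agent.AlgSpLib.Fppf
import Groth.Agent.FibLib.RepMor

/-!
# General lemmas on functors representable by algebraic spaces
-/

set_option autoImplicit false
set_option linter.style.haveILetI false
set_option backward.isDefEq.respectTransparency false
set_option backward.isDefEq.respectTransparency.types false

universe vv1 ww1 vv2 ww2 vv3 ww3 vv4 ww4 vv5 ww5 vv6 ww6 vv7 ww7 vv8 ww8 vv9 ww9 vv10 ww10 vv11 ww11 vv12 ww12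
universe w₄ v₄ w₃ v₃ w' v' w v u

open CategoryTheory CategoryTheory.Limits AlgebraicGeometry Opposite AlgSp FibCat FibLib AlgSpLib

namespace AlgStBig
open AlgStLib

section General

variable {C : Type w₄} [Category.{v₄} C] {G H : Cᵒᵖ ⥤ Type w₃}
  {𝒲 : BasedCategory.{v', w'} C} {𝒰 : BasedCategory.{v, w} C}

lemma full_id (𝒲 : BasedCategory.{v', w'} C) : (BasedFunctor.id 𝒲).toFunctor.Full :=
  inferInstanceAs (𝟭 _).Full

lemma faithful_id (𝒲 : BasedCategory.{v', w'} C) : (BasedFunctor.id 𝒲).toFunctor.Faithful :=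
  inferInstanceAs (𝟭 _).Faithful

lemma PRep.transport_back {p : 𝒲 ⥤ᵇ Stk.ofPsh G} {q : 𝒰 ⥤ᵇ Stk.ofPsh G} {a : H ⟶ G} (h : PRep p a)
    {E : 𝒰 ⥤ᵇ 𝒲} (hE : IsEquivOver E) (α : BasedFunctor.comp E p ≅ q) : PRep q a := by
  obtain ⟨E', hE', -, ⟨β⟩⟩ := exists_inverse hE
  refine PRep.transport h hE' ?_
  exact (whiskerLeftIso' E' α).symm ≪≫ whiskerRightIso' β p

end General

section Swap

universe w₅ v₅

variable {C : Type w₄} [Category.{v₄} C] {𝒳 : BasedCategory.{v, w} C} {𝒴 : BasedCategory.{v', w'} C}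
  {𝒵 : BasedCategory.{v₅, w₅} C} (F : 𝒳 ⥤ᵇ 𝒵) (G : 𝒴 ⥤ᵇ 𝒵)

/-- Swapping the factors of a fibre product. -/
def fpSwap : fp F G ⥤ᵇ fp G F := fpLift (FibCat.fpSnd F G) (FibCat.fpFst F G) (fpIso F G).symm

lemma isEquivOver_fpSwap : IsEquivOver (fpSwap F G) :=
  ⟨fpSwap G F, ⟨Iso.refl _⟩, ⟨Iso.refl _⟩⟩

lemma equivTo_fp_swap : EquivTo (fp F G) (fp G F) := ⟨_, isEquivOver_fpSwap F G⟩

end Swap

variable {S : Scheme.{u}}

section Transport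

variable {𝒳 : BasedCategory.{v, w} (Over S)} {𝒴 : BasedCategory.{v', w'} (Over S)}
  {𝒳' : BasedCategory.{v₃, w₃} (Over S)} {𝒴' : BasedCategory.{v₄, w₄} (Over S)}

lemma RepByAlgSp.of_equivTo (h : EquivTo 𝒳 𝒴) (hY : AlgSt.RepByAlgSp 𝒴) : AlgSt.RepByAlgSp 𝒳 := by
  obtain ⟨K, hK⟩ := h.symm
  obtain ⟨F, e, he⟩ := hY
  exact ⟨F, BasedFunctor.comp e K, isEquivOver_comp he hK⟩

lemma repByAlgSp_ofSp {F : Sp S} (hF : IsAlgSpace F) : AlgSt.RepByAlgSp (AlgSt.ofSp F) :=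
  ⟨⟨F, hF⟩, BasedFunctor.id _, isEquivOver_id _⟩

lemma repByAlgSp_overCat (U : Over S) : AlgSt.RepByAlgSp (overCat U) :=
  ⟨⟨(yon S).obj U, IsAlgSpace.yon_obj U⟩, AlgSt.toOverCat U, isEquivOver_toOverCat U⟩

lemma isFibSetoid_of_repByAlgSp (h : AlgSt.RepByAlgSp 𝒳) : IsFibSetoid 𝒳.p := by
  obtain ⟨F, e, he⟩ := h
  obtain ⟨e', he', -⟩ := exists_inverse he
  exact isFibSetoid_of_isEquivOver isFibSetoid_ofPsh he'

lemma isFibGrpd_of_repByAlgSp (h : AlgSt.RepByAlgSp 𝒳) : IsFibGrpd 𝒳.p :=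
  (isFibSetoid_of_repByAlgSp h).1

lemma isFibGrpd_overCat (U : Over S) : IsFibGrpd (overCat U).p :=
  isFibGrpd_of_repByAlgSp (repByAlgSp_overCat U)

/-- Base change along a functor into the source of an equivalence square. -/
lemma along_of_square {f : 𝒳 ⥤ᵇ 𝒴} {f' : 𝒳' ⥤ᵇ 𝒴'} {a : 𝒳' ⥤ᵇ 𝒳} {b : 𝒴' ⥤ᵇ 𝒴}
    (ha : IsEquivOver a) (hb : IsEquivOver b) (e : BasedFunctor.comp f' b ≅ BasedFunctor.comp a f)
    {G H : (Over S)ᵒᵖ ⥤ Type (u + 1)} (u' : Stk.ofPsh G ⥤ᵇ 𝒴') (φ : H ⟶ G) :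
    Along u' f' φ ↔ Along (BasedFunctor.comp u' b) f φ := by
  obtain ⟨⟨_, _⟩, -⟩ := (isEquivOver_iff b).mp hb
  let M : fp u' f' ⥤ᵇ fp (BasedFunctor.comp u' b) f :=
    fpMap (a := BasedFunctor.id _) (b := a) (c := b) (Iso.refl _) e.symm
  have hM : IsEquivOver M := isEquivOver_fpMap _ _ (isEquivOver_id _) ha
  exact ⟨fun h => PRep.transport h hM (Iso.refl _), fun h => PRep.transport_back h hM (Iso.refl _)⟩

lemma repByAlgSpWith_square_iff {f : 𝒳 ⥤ᵇ 𝒴} {f' : 𝒳' ⥤ᵇ 𝒴'} {a : 𝒳' ⥤ᵇ 𝒳} {b : 𝒴' ⥤ᵇ 𝒴}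
    (ha : IsEquivOver a) (hb : IsEquivOver b) (e : BasedFunctor.comp f' b ≅ BasedFunctor.comp a f)
    (P : MorphismProperty (Sp S)) :
    AlgSt.RepByAlgSpWith P f ↔ AlgSt.RepByAlgSpWith P f' := by
  rw [repByAlgSpWith_iff, repByAlgSpWith_iff]
  constructor
  · intro h U u'
    obtain ⟨H, φ, hH, hφ, hP⟩ := h U (BasedFunctor.comp u' b)
    exact ⟨H, φ, hH, (along_of_square ha hb e u' φ.hom).mpr hφ, hP⟩
  · intro h U u
    obtain ⟨b', -, -, ⟨β⟩⟩ := exists_inverse hb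
    obtain ⟨H, φ, hH, hφ, hP⟩ := h U (BasedFunctor.comp u b')
    exact ⟨H, φ, hH, ((along_of_square ha hb e _ φ.hom).mp hφ).congr (whiskerLeftIso' u β) (Iso.refl _), hP⟩

lemma repByAlgSp1_square_iff {f : 𝒳 ⥤ᵇ 𝒴} {f' : 𝒳' ⥤ᵇ 𝒴'} {a : 𝒳' ⥤ᵇ 𝒳} {b : 𝒴' ⥤ᵇ 𝒴}
    (ha : IsEquivOver a) (hb : IsEquivOver b) (e : BasedFunctor.comp f' b ≅ BasedFunctor.comp a f) :
    AlgSt.RepByAlgSp1 f ↔ AlgSt.RepByAlgSp1 f' := by
  rw [repByAlgSp1_iff_with_top, repByAlgSp1_iff_with_top, repByAlgSpWith_square_iff ha hb e]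

end Transport

section Presheaves

/-- Base changes of maps of presheaves are pullbacks. -/
lemma along_ofPshMap_iff {F G H K : (Over S)ᵒᵖ ⥤ Type (u + 1)} (b : K ⟶ G) (a : F ⟶ G) (a' : H ⟶ K) :
    Along (Stk.ofPshMap b) (Stk.ofPshMap a) a' ↔ ∃ b' : H ⟶ F, IsPullback b' a' a b :=
  ⟨isPullback_of_along, fun ⟨_, sq⟩ => along_ofPshMap sq⟩

lemma repByAlgSpWith_ofSpMap {P : MorphismProperty (Sp S)} {F G : Sp S} (hF : IsAlgSpace F)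
    (hG : IsAlgSpace G) (a : F ⟶ G)
    (hP : ∀ ⦃U : Over S⦄ (ξ : (yon S).obj U ⟶ G), P (pullback.snd a ξ)) :
    AlgSt.RepByAlgSpWith P (AlgSt.ofSpMap a) := by
  rw [repByAlgSpWith_iff]
  intro U u
  obtain ⟨α⟩ := nonempty_iso_mapOf u
  let ξ : (yon S).obj U ⟶ G := ObjectProperty.homMk (mapOf u)
  exact ⟨_, pullback.snd a ξ, isAlgSpace_pullback hF (IsAlgSpace.yon_obj U) hG a ξ,
    (along_ofPshMap (isPullback_sheaf (IsPullback.of_hasPullback a ξ))).congr α.symm (Iso.refl _), hP ξ⟩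

lemma repByAlgSp1_ofSpMap {F G : Sp S} (hF : IsAlgSpace F) (hG : IsAlgSpace G) (a : F ⟶ G) :
    AlgSt.RepByAlgSp1 (AlgSt.ofSpMap a) :=
  repByAlgSp1_of_with (repByAlgSpWith_ofSpMap (P := ⊤) hF hG a fun _ _ => trivial)

lemma repBySpWith_iff_ofPshMap (Q : MorphismProperty (Sp S)) [Q.RespectsIso]
    {F G : PSp S} (a : F ⟶ G) :
    RepBySpWith Q a ↔ AlgSt.RepByAlgSpWith Q (Stk.ofPshMap a) := by
  rw [repByAlgSpWith_iff]
  constructor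
  · intro h U u
    obtain ⟨α⟩ := nonempty_iso_mapOf (P := ((yon S).obj U).obj) u
    let ξ : (pyon S).obj U ⟶ G := mapOf u
    obtain ⟨hs, hA, hQ⟩ := h ξ (pullback.fst a ξ) (pullback.snd a ξ) (IsPullback.of_hasPullback a ξ)
    exact ⟨_, _, hA, (along_ofPshMap (IsPullback.of_hasPullback a ξ)).congr α.symm (Iso.refl _), hQ⟩
  · intro h U ξ F' fst snd sq
    obtain ⟨H, π, hH, hπ, hQ⟩ := h U (Stk.ofPshMap ξ)
    obtain ⟨i, hi⟩ := Along.unique (along_ofPshMap sq) hπ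
    have hs : Presheaf.IsSheaf (J S) F' := (Presheaf.isSheaf_of_iso_iff i).2 H.property
    let i' : (⟨F', hs⟩ : Sp S) ≅ H := (fullyFaithfulSheafToPresheaf (J S) _).preimageIso i
    refine ⟨hs, hH.of_iso i'.symm, ?_⟩
    have e : (ObjectProperty.homMk snd : (⟨F', hs⟩ : Sp S) ⟶ (yon S).obj U) = i'.hom ≫ π :=
      ObjectProperty.hom_ext _ hi.symm
    rw [e]
    exact (Q.cancel_left_of_respectsIso _ _).mpr hQ

lemma repBySp_iff_with_top {F G : PSp S} (a : F ⟶ G) :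
    RepBySp a ↔ RepBySpWith (⊤ : MorphismProperty (Sp S)) a :=
  ⟨fun h _ ξ _ fst snd sq => let ⟨hs, hA⟩ := h ξ fst snd sq; ⟨hs, hA, trivial⟩,
    fun h => h.repBySp⟩

lemma repBySp_iff_ofPshMap {F G : PSp S} (a : F ⟶ G) :
    RepBySp a ↔ AlgSt.RepByAlgSp1 (Stk.ofPshMap a) := by
  rw [repBySp_iff_with_top, repByAlgSp1_iff_with_top, repBySpWith_iff_ofPshMap]

end Presheaves

section Cat

variable {𝒳 : BasedCategory.{vv1, ww1} (Over S)} {𝒴 : BasedCategory.{vv2, ww2} (Over S)} {𝒵 : BasedCategory.{vv3, ww3} (Over S)}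

lemma repByAlgSp1_of_repByAlgSp (hX : AlgSt.RepByAlgSp 𝒳) (hY : AlgSt.RepByAlgSp 𝒴) (f : 𝒳 ⥤ᵇ 𝒴) :
    AlgSt.RepByAlgSp1 f := by
  obtain ⟨F, e, he⟩ := hX
  obtain ⟨G, e', he'⟩ := hY
  obtain ⟨g, -, -, ⟨β⟩⟩ := exists_inverse he'
  obtain ⟨α⟩ := nonempty_iso_mapOf (P := F.obj.obj) (Q := G.obj.obj) (BasedFunctor.comp e (BasedFunctor.comp f g))
  let a : F.obj ⟶ G.obj :=
    ObjectProperty.homMk (mapOf (P := F.obj.obj) (Q := G.obj.obj) (BasedFunctor.comp e (BasedFunctor.comp f g)))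
  refine (repByAlgSp1_square_iff he he' ?_).mpr (repByAlgSp1_ofSpMap F.property G.property a)
  exact (whiskerRightIso' α e').symm ≪≫ whiskerLeftIso' (BasedFunctor.comp e f) β

theorem faithful_of_repByAlgSp1 [IsFibGrpd 𝒳.p] [IsFibGrpd 𝒴.p] {f : 𝒳 ⥤ᵇ 𝒴}
    (hf : AlgSt.RepByAlgSp1 f) : f.toFunctor.Faithful := by
  refine faithful_of_fiber f (preservesStronglyCartesian_of_isFibGrpd f) fun U => ⟨fun {a b φ ψ} e => ?_⟩
  have hh : f.map φ.1 = f.map ψ.1 := congrArg Subtype.val e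
  let y : overCat U ⥤ᵇ 𝒴 := ofPoint (Functor.Fiber.mk (p := 𝒴.p) (a := f.obj b.1) ((f.w_obj b.1).trans b.2))
  let u : AlgSt.ofSch U ⥤ᵇ 𝒴 := BasedFunctor.comp (AlgSt.toOverCat U) y
  let o : (AlgSt.ofSch U).obj := ⟨U, ⟨𝟙 U⟩⟩
  have ho : 𝒴.p.obj (u.obj o) = U := u.w_obj o
  obtain ⟨k⟩ := nonempty_evalAtId_ofPoint_iso
    (Functor.Fiber.mk (p := 𝒴.p) (a := f.obj b.1) ((f.w_obj b.1).trans b.2))
  have k' : u.obj o ≅ f.obj b.1 :=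
    ⟨k.hom.1, k.inv.1, congrArg Subtype.val k.hom_inv_id, congrArg Subtype.val k.inv_hom_id⟩
  haveI hφ : 𝒳.p.IsHomLift (𝟙 U) φ.1 := φ.2
  haveI hψ : 𝒳.p.IsHomLift (𝟙 U) ψ.1 := ψ.2
  haveI hfφ : 𝒴.p.IsHomLift (𝟙 U) (f.map φ.1) := f.preserves_isHomLift _ φ.1
  let kb : u.obj o ≅ f.obj b.1 :=
    ⟨k.hom.1, k.inv.1, congrArg Subtype.val k.hom_inv_id, congrArg Subtype.val k.inv_hom_id⟩
  haveI hkb : 𝒴.p.IsHomLift (𝟙 U) kb.hom := k.hom.2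
  haveI hi : IsIso (f.map φ.1) := isIso_of_isHomLift (p := 𝒴.p) (𝟙 U) (f.map φ.1)
  let ka : u.obj o ≅ f.obj a.1 := kb ≪≫ (asIso (f.map φ.1)).symm
  have hka : 𝒴.p.IsHomLift (𝟙 U) ka.hom := by
    haveI : 𝒴.p.IsHomLift (𝟙 U) (asIso (f.map φ.1)).inv :=
      @IsHomLift.lift_id_inv _ _ _ _ 𝒴.p _ _ _ (asIso (f.map φ.1)) hfφ
    simp only [ka, Iso.trans_hom, Iso.symm_hom]
    infer_instance
  let ηb : (fp u f).obj := fpObj o b.1 kb hkb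
  let ηa : (fp u f).obj := fpObj o a.1 ka hka
  have hw : ∀ θ : a.1 ⟶ b.1, f.map θ = f.map φ.1 → u.map (𝟙 o) ≫ kb.hom = ka.hom ≫ f.map θ := by
    intro θ hθ
    rw [u.toFunctor.map_id, hθ]
    simp [ka]
  let φ' : ηa ⟶ ηb := fpHom (𝟙 o) φ.1 (hw φ.1 rfl)
  let ψ' : ηa ⟶ ηb := fpHom (𝟙 o) ψ.1 (hw ψ.1 hh.symm)
  haveI : (fp u f).p.IsHomLift (𝟙 U) φ' := by
    haveI : (AlgSt.ofSch U).p.IsHomLift (𝟙 U) φ'.hom.fst := IsHomLift.id rfl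
    exact isHomLift_of_fst (𝟙 U) φ'
  haveI : (fp u f).p.IsHomLift (𝟙 U) ψ' := by
    haveI : (AlgSt.ofSch U).p.IsHomLift (𝟙 U) ψ'.hom.fst := IsHomLift.id rfl
    exact isHomLift_of_fst (𝟙 U) ψ'
  have hset := isFibSetoid_fp hf u
  haveI := hset.1
  have := hom_eq_of_thin hset.2 (𝟙 U) φ' ψ'
  exact Functor.Fiber.hom_ext (congrArg (fun t => t.hom.snd) this)

theorem repByAlgSp_fp [IsFibGrpd 𝒳.p] [IsFibGrpd 𝒴.p] {f : 𝒳 ⥤ᵇ 𝒴} (g : 𝒵 ⥤ᵇ 𝒴)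
    (hf : AlgSt.RepByAlgSp1 f) (hZ : AlgSt.RepByAlgSp 𝒵) : AlgSt.RepByAlgSp (fp g f) := by
  obtain ⟨F, e, he⟩ := hZ
  obtain ⟨H, a, hH, k, hk, -⟩ := exists_along hf F.property (BasedFunctor.comp e g)
  exact RepByAlgSp.of_equivTo (equivTo_fp_left he g f).symm ⟨⟨H, hH⟩, k, hk⟩

lemma repByAlgSp1_of_space [IsFibGrpd 𝒳.p] {𝒰 : BasedCategory.{vv4, ww4} (Over S)} (hU : AlgSt.RepByAlgSp 𝒰)
    (h : ∀ (U : Over S) (x : overCat U ⥤ᵇ 𝒳), AlgSt.RepByAlgSp1 x) (x : 𝒰 ⥤ᵇ 𝒳) :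
    AlgSt.RepByAlgSp1 x := fun U y => by
  haveI := isFibGrpd_overCat U
  exact RepByAlgSp.of_equivTo (equivTo_fp_swap y x) (repByAlgSp_fp x (h U y) hU)

lemma repByAlgSp_fp_toSelf (U V : Over S) :
    AlgSt.RepByAlgSp (fp (toSelf (overCat U)) (toSelf (overCat V))) :=
  RepByAlgSp.of_equivTo (EquivTo.symm ⟨_, isEquivOver_prodCmp U V⟩) (repByAlgSp_overCat _)

lemma repByAlgSp_fp_comp_toSelf {U V : Over S} (a : overCat U ⥤ᵇ 𝒳) (b : overCat V ⥤ᵇ 𝒳) :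
    AlgSt.RepByAlgSp (fp (BasedFunctor.comp a (toSelf 𝒳)) (BasedFunctor.comp b (toSelf 𝒳))) :=
  RepByAlgSp.of_equivTo (equivTo_fp_congr (compToSelfIso a) (compToSelfIso b)).symm
    (repByAlgSp_fp_toSelf U V)

/-- Functors into `Y₁ ×_C Y₂` are determined by their two components. -/
lemma nonempty_iso_pair {U : Over S} {𝒵 : BasedCategory.{vv5, ww5} (Over S)} (K : overCat U ⥤ᵇ fp (toSelf 𝒵) (toSelf 𝒵)) :
    Nonempty (BasedFunctor.comp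
      (fpLift (F := BasedFunctor.comp (BasedFunctor.comp K (FibCat.fpFst _ _)) (toSelf 𝒵))
        (G := BasedFunctor.comp (BasedFunctor.comp K (FibCat.fpSnd _ _)) (toSelf 𝒵))
        (BasedFunctor.id (overCat U)) (BasedFunctor.id _) (nonempty_iso_selfOver _ _).some)
      (fpPair (BasedFunctor.comp K (FibCat.fpFst _ _)) (BasedFunctor.comp K (FibCat.fpSnd _ _)) (toSelf 𝒵)) ≅ K) :=
  ⟨fpToSelfIsoExt _ _ (Iso.refl _) (Iso.refl _)⟩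

theorem repByAlgSp1_diag_iff [IsFibGrpd 𝒳.p] :
    AlgSt.RepByAlgSp1 (diag (toSelf 𝒳)) ↔
      ∀ (U : Over S) (x : overCat U ⥤ᵇ 𝒳), AlgSt.RepByAlgSp1 x := by
  constructor
  · intro hΔ U x V y
    haveI hS : IsFibGrpd (selfOver (Over S)).p := inferInstance
    haveI : IsFibGrpd (fp (toSelf 𝒳) (toSelf 𝒳)).p := isFibGrpd_fp
    exact RepByAlgSp.of_equivTo (equivTo_fp_magic y x (toSelf 𝒳))
      (repByAlgSp_fp _ hΔ (repByAlgSp_fp_comp_toSelf y x))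
  · intro h U K
    let x := BasedFunctor.comp K (FibCat.fpFst (toSelf 𝒳) (toSelf 𝒳))
    let y := BasedFunctor.comp K (FibCat.fpSnd (toSelf 𝒳) (toSelf 𝒳))
    obtain ⟨i⟩ := nonempty_iso_pair K
    refine RepByAlgSp.of_equivTo ((equivTo_fp_congr i (Iso.refl _)).trans
      (equivTo_fp_paste _ (fpPair x y (toSelf 𝒳)) (diag (toSelf 𝒳))).symm) ?_
    have hW : AlgSt.RepByAlgSp (fp (fpPair x y (toSelf 𝒳)) (diag (toSelf 𝒳))) :=
      RepByAlgSp.of_equivTo (equivTo_fp_magic x y (toSelf 𝒳)).symm (h U y U x)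
    have hT : AlgSt.RepByAlgSp (fp (BasedFunctor.comp x (toSelf 𝒳)) (BasedFunctor.comp y (toSelf 𝒳))) :=
      repByAlgSp_fp_comp_toSelf x y
    haveI := isFibGrpd_of_repByAlgSp hW
    haveI := isFibGrpd_of_repByAlgSp hT
    exact repByAlgSp_fp _ (repByAlgSp1_of_repByAlgSp hW hT _) (repByAlgSp_overCat U)

theorem repByAlgSpWith_comp [IsFibGrpd 𝒳.p] [IsFibGrpd 𝒴.p] {P : MorphismProperty (Sp S)}
    (hPb : StableBC P)
    (hPc : ∀ ⦃X Y Z : Sp S⦄, IsAlgSpace X → IsAlgSpace Y → IsAlgSpace Z →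
      ∀ (a : X ⟶ Y) (b : Y ⟶ Z), P a → P b → P (a ≫ b))
    (hP : IsLocalOnBase IsFppfCover P) {f : 𝒳 ⥤ᵇ 𝒴} {g : 𝒴 ⥤ᵇ 𝒵}
    (hf : AlgSt.RepByAlgSpWith P f) (hg : AlgSt.RepByAlgSpWith P g) :
    AlgSt.RepByAlgSpWith P (BasedFunctor.comp f g) := by
  rw [repByAlgSpWith_iff] at hg ⊢
  intro U u
  obtain ⟨H, a, hH, ha, hPa⟩ := hg U u
  obtain ⟨v, hv⟩ := Along.comp (f := f) ha
  obtain ⟨K, b, hK, hb, hPb'⟩ := exists_along_prop hPb hP hf hH v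
  exact ⟨K, b ≫ a, hK, hv b.hom hb, hPc hK hH (IsAlgSpace.yon_obj U) b a hPb' hPa⟩

end Cat

section Descent

/-- A covering sieve of the fppf site contains an fppf covering family. -/
lemma exists_cover_of_mem {U : Over S} {R : Sieve U}
    (hR : R ∈ (QuotSh.J Scheme.fppfPrecoverage S) U) :
    ∃ (V : U.left → Over S) (h : ∀ t, V t ⟶ U), (∀ t, R.arrows (h t)) ∧
      IsFppfCover (fun t => (yon S).obj (V t)) (fun t => (yon S).map (h t)) := by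
  have hR' : Sieve.overEquiv U R ∈ Scheme.fppfPrecoverage.toGrothendieck U.left :=
    (GrothendieckTopology.mem_over_iff _ _).mp hR
  haveI : (@Flat ⊓ @LocallyOfFinitePresentation : MorphismProperty Scheme.{u}).ContainsIdentities :=
    ⟨fun _ => ⟨inferInstance, inferInstance⟩⟩
  haveI : (@Flat ⊓ @LocallyOfFinitePresentation : MorphismProperty Scheme.{u}).RespectsIso :=
    inferInstance
  haveI : Scheme.fppfPrecoverage.{u}.HasIsos :=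
    inferInstanceAs (Scheme.precoverage (@Flat ⊓ @LocallyOfFinitePresentation)).HasIsos
  obtain ⟨T, hT, hle⟩ := Precoverage.mem_toGrothendieck_iff_of_isStableUnderComposition.mp hR'
  have hmem : ∀ t : U.left, ∃ (W : Scheme.{u}) (g : W ⟶ U.left), T g ∧ t ∈ Set.range g ∧
      Flat g ∧ LocallyOfFinitePresentation g := by
    intro t
    obtain ⟨ι, Z, k, rfl⟩ := T.exists_eq_ofArrows
    obtain ⟨hs, hp⟩ := (Scheme.ofArrows_mem_precoverage_iff _).mp hT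
    obtain ⟨i, hi⟩ := hs t
    exact ⟨Z i, k i, ⟨i⟩, hi, (hp i).1, (hp i).2⟩
  choose W g hg ht hgf hgp using hmem
  refine ⟨fun t => Over.mk (g t ≫ U.hom), fun t => Over.homMk (g t),
    fun t => (Sieve.overEquiv_iff _ _).mp (hle _ _ (hg t)), ?_⟩
  refine ⟨fun t => ⟨(locP_yon_map_iff (P := @Flat) _).mpr (hgf t),
    (locP_yon_map_iff (P := @LocallyOfFinitePresentation) _).mpr (hgp t)⟩, fun x => ?_⟩
  obtain ⟨t, rfl⟩ := (Points.schemeHomeo U).surjective x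
  obtain ⟨s, hs⟩ := ht t
  refine ⟨t, Points.schemeHomeo (Over.mk (g t ≫ U.hom)) s, ?_⟩
  rw [Points.map_yon_map_apply]
  exact congrArg _ hs

variable {𝒳 : BasedCategory.{vv6, ww6} (Over S)} {𝒴 : BasedCategory.{vv7, ww7} (Over S)} {𝒵 : BasedCategory.{vv8, ww8} (Over S)}

theorem repByAlgSpWith_of_fpFst {P : MorphismProperty (Sp S)}
    (hPb : StableBC P) (hP : IsLocalOnBase IsFppfCover P)
    {f : 𝒳 ⥤ᵇ 𝒴} (hf : AlgSt.RepByAlgSp1 f) {g : 𝒵 ⥤ᵇ 𝒴}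
    (hg : ∀ (U : Over S) (y : overCat U ⥤ᵇ 𝒴), ∃ R ∈ (QuotSh.J Scheme.fppfPrecoverage S) U,
      ∀ ⦃V : Over S⦄ (h : V ⟶ U), R.arrows h → ∃ z : overCat V ⥤ᵇ 𝒵,
        Nonempty (BasedFunctor.comp z g ≅ BasedFunctor.comp (AlgSt.overMap h) y))
    (h' : AlgSt.RepByAlgSpWith P (FibCat.fpFst g f)) : AlgSt.RepByAlgSpWith P f := by
  refine repByAlgSpWith_of_forall hf fun U u H a hH ha => ?_
  obtain ⟨R, hR, hl⟩ := hg U (BasedFunctor.comp (AlgSt.ofOverCat U) u)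
  obtain ⟨V, h, hmem, hcov⟩ := exists_cover_of_mem hR
  have sq := fun t => IsPullback.of_hasPullback a ((yon S).map (h t))
  have hW : ∀ t, IsAlgSpace (pullback a ((yon S).map (h t))) := fun t =>
    isAlgSpace_of_isPullback hH (IsAlgSpace.yon_obj _) (IsAlgSpace.yon_obj U) (sq t)
  refine (hP _ (fun t => (yon S).map (h t)) (IsAlgSpace.yon_obj U) (fun t => IsAlgSpace.yon_obj _)
    hcov a hH _ (fun t => pullback.snd _ _) (fun t => pullback.fst _ _) hW sq).mpr fun t => ?_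
  obtain ⟨z, ⟨i⟩⟩ := hl (h t) (hmem t)
  let z' : AlgSt.ofSch (V t) ⥤ᵇ 𝒵 := BasedFunctor.comp (AlgSt.toOverCat (V t)) z
  obtain ⟨H', a', hH', ha', hP'⟩ := (repByAlgSpWith_iff P _).mp h' (V t) z'
  have hsec : ∀ x, secOf (P := ((yon S).obj U).obj)
      (BasedFunctor.comp (AlgSt.toOverCat (V t)) (BasedFunctor.comp (AlgSt.overMap (h t)) (AlgSt.ofOverCat U))) x =
      secOf (Stk.ofPshMap ((yon S).map (h t)).hom) x := fun x => by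
    apply ULift.ext
    show (𝟙 x.base ≫ x.sec.down ≫ h t) = _
    rw [secOf_ofPshMap]
    exact Category.id_comp _
  obtain ⟨γ⟩ := nonempty_iso_of_sec hsec
  have e : BasedFunctor.comp z' g ≅ BasedFunctor.comp (Stk.ofPshMap ((yon S).map (h t)).hom) u :=
    whiskerLeftIso' (AlgSt.toOverCat (V t)) i ≪≫ whiskerRightIso' γ u
  have hA := (Along.of_fpFst ha').congr e (Iso.refl _)
  obtain ⟨j, hj⟩ := along_hom_unique (ha.of_isPullback (isPullback_sheaf (sq t))) hA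
  rw [← hj]
  exact hPb.precomp_iso j a' hH' (IsAlgSpace.yon_obj _) hP'

end Descent

section ProdMap

variable {𝒳₁ : BasedCategory.{vv9, ww9} (Over S)} {𝒳₂ : BasedCategory.{vv10, ww10} (Over S)} {𝒴₁ : BasedCategory.{vv11, ww11} (Over S)} {𝒴₂ : BasedCategory.{vv12, ww12} (Over S)}

theorem repByAlgSpWith_prodMap [IsFibGrpd 𝒳₂.p] [IsFibGrpd 𝒴₂.p] {P : MorphismProperty (Sp S)}
    (hPb : StableBC P)
    (hPc : ∀ ⦃X Y Z : Sp S⦄, IsAlgSpace X → IsAlgSpace Y → IsAlgSpace Z →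
      ∀ (a : X ⟶ Y) (b : Y ⟶ Z), P a → P b → P (a ≫ b))
    (hP : IsLocalOnBase IsFppfCover P)
    (f₁ : 𝒳₁ ⥤ᵇ 𝒴₁) (f₂ : 𝒳₂ ⥤ᵇ 𝒴₂) (hf₁ : AlgSt.RepByAlgSpWith P f₁) (hf₂ : AlgSt.RepByAlgSpWith P f₂)
    (e : BasedFunctor.comp (BasedFunctor.comp (FibCat.fpFst (toSelf 𝒳₁) (toSelf 𝒳₂)) f₁) (toSelf 𝒴₁) ≅
      BasedFunctor.comp (BasedFunctor.comp (FibCat.fpSnd (toSelf 𝒳₁) (toSelf 𝒳₂)) f₂) (toSelf 𝒴₂)) :
    AlgSt.RepByAlgSpWith P (fpLift (BasedFunctor.comp (FibCat.fpFst (toSelf 𝒳₁) (toSelf 𝒳₂)) f₁)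
      (BasedFunctor.comp (FibCat.fpSnd (toSelf 𝒳₁) (toSelf 𝒳₂)) f₂) e) := by
  intro U G
  obtain ⟨H₁, e₁, he₁, hP₁⟩ := hf₁ U (BasedFunctor.comp G (FibCat.fpFst _ _))
  let v : AlgSt.ofSp H₁.obj ⥤ᵇ 𝒴₂ := BasedFunctor.comp e₁ (prodAux f₁ G)
  obtain ⟨K, b, hK, ⟨k, hk, ⟨κ⟩⟩, hPb'⟩ := exists_along_prop hPb hP hf₂ H₁.property v
  haveI := full_id 𝒴₂
  haveI := faithful_id 𝒴₂
  let M : fp v f₂ ⥤ᵇ fp (prodAux f₁ G) f₂ :=
    fpMap (a := e₁) (b := BasedFunctor.id 𝒳₂) (c := BasedFunctor.id 𝒴₂) (Iso.refl _) (Iso.refl _)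
  have hM : IsEquivOver M := isEquivOver_fpMap _ _ he₁ (isEquivOver_id _)
  refine ⟨⟨K, hK⟩, BasedFunctor.comp (BasedFunctor.comp k M) (prodMapCmp f₁ f₂ e G),
    isEquivOver_comp (isEquivOver_comp hk hM) (isEquivOver_prodMapCmp f₁ f₂ e G), ?_⟩
  have h1 : Nonempty (BasedFunctor.comp (BasedFunctor.comp e₁ (FibCat.fpFst _ _)) (AlgSt.ofOverCat U) ≅
      Stk.ofPshMap (AlgSt.spMapOfOver (BasedFunctor.comp e₁ (FibCat.fpFst _ _))).hom) :=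
    (spMapOfOver_eq_iff _ _).mp rfl
  obtain ⟨α⟩ := h1
  have h2 : AlgSt.spMapOfOver (BasedFunctor.comp (BasedFunctor.comp (BasedFunctor.comp k M) (prodMapCmp f₁ f₂ e G))
      (FibCat.fpFst G _)) = b ≫ AlgSt.spMapOfOver (BasedFunctor.comp e₁ (FibCat.fpFst _ _)) := by
    refine (spMapOfOver_eq_iff _ _).mpr ⟨?_⟩
    exact whiskerRightIso' κ (BasedFunctor.comp (BasedFunctor.comp e₁ (FibCat.fpFst _ _)) (AlgSt.ofOverCat U)) ≪≫
      whiskerLeftIso' (Stk.ofPshMap b.hom) α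
  rw [h2]
  exact hPc hK H₁.property (IsAlgSpace.yon_obj U) b _ hPb' hP₁

end ProdMap

end AlgStBig
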