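import Groth.Agent.AlgStBig.Diag
import Groth.Agent.AlgSpLib.Noeth

/-!
# Separation of functors of algebraic stacks
-/

set_option autoImplicit false
set_option linter.style.haveILetI false
set_option backward.isDefEq.respectTransparency false
set_option backward.isDefEq.respectTransparency.types false

universe vv1 ww1 vv2 ww2 vv3 ww3
universe u

open CategoryTheory CategoryTheory.Limits AlgebraicGeometry Opposite AlgSp FibCat FibLib AlgSpLib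

namespace AlgStBig
open AlgStLib

variable {S : Scheme.{u}} {𝒳 : BasedCategory.{vv1, ww1} (Over S)} {𝒴 : BasedCategory.{vv2, ww2} (Over S)} {𝒵 : BasedCategory.{vv3, ww3} (Over S)} {K K' : Precoverage Scheme.{u}}

lemma isFibGrpd_of_isAlgStack (h : AlgSt.IsAlgStack K 𝒳) : IsFibGrpd 𝒳.p := h.isStack.1

lemma repByAlgSpWith_diag_congr {P : MorphismProperty (Sp S)} {f f' : 𝒳 ⥤ᵇ 𝒴} (α : f ≅ f')
    (h : AlgSt.RepByAlgSpWith P (diag f')) : AlgSt.RepByAlgSpWith P (diag f) := by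
  haveI := full_id 𝒴
  haveI := faithful_id 𝒴
  let C := fpMap (a := BasedFunctor.id 𝒳) (b := BasedFunctor.id 𝒳) (c := BasedFunctor.id 𝒴)
    (F := f') (G := f') (F' := f) (G' := f) α.symm α.symm
  have hC : IsEquivOver C := isEquivOver_fpMap _ _ (isEquivOver_id _) (isEquivOver_id _)
  refine (repByAlgSpWith_square_iff (f := diag f') (a := BasedFunctor.id 𝒳) (b := C) (isEquivOver_id _) hC ?_ P).mp h
  refine fpIsoExt _ _ (Iso.refl _) (Iso.refl _) fun x => ?_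
  change f'.map (𝟙 x) ≫ 𝟙 (f'.obj x) = ((appIso α x).inv ≫ 𝟙 _ ≫ (appIso α x).hom) ≫ f'.map (𝟙 x)
  simp only [f'.toFunctor.map_id, Category.id_comp, Iso.inv_hom_id]

lemma repByAlgSp1_fpPush (a : 𝒳 ⥤ᵇ 𝒴) (b : 𝒳 ⥤ᵇ 𝒴) (g : 𝒴 ⥤ᵇ 𝒵) (h : AlgSt.RepByAlgSp1 (diag g)) :
    AlgSt.RepByAlgSp1 (fpPush a b g) :=
  repByAlgSp1_of_with (repByAlgSpWith_fpPush a b g ((repByAlgSp1_iff_with_top _).mp h))

/-- The diagonal of a morphism of algebraic stacks is representable by algebraic spaces. -/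
theorem repByAlgSp1_diag (h𝒳 : AlgSt.IsAlgStack K 𝒳) (h𝒴 : AlgSt.IsAlgStack K' 𝒴) (f : 𝒳 ⥤ᵇ 𝒴) :
    AlgSt.RepByAlgSp1 (diag f) := by
  have h2 : AlgSt.RepByAlgSp1 (diag (BasedFunctor.comp f (toSelf 𝒴))) :=
    repByAlgSp1_of_with (repByAlgSpWith_diag_congr (compToSelfIso f)
      ((repByAlgSp1_iff_with_top _).mp h𝒳.diag))
  refine repByAlgSp1_of_comp (G := fpPush f f (toSelf 𝒴)) ?_ (repByAlgSp1_fpPush f f _ h𝒴.diag)
  exact repByAlgSp1_of_with (repByAlgSpWith_congr (diagCompIso f (toSelf 𝒴))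
    ((repByAlgSp1_iff_with_top _).mp h2))

lemma prop_diagonal_mono {K U : Sp S} (hK : IsAlgSpace K) (a : K ⟶ U) : Mono (pullback.diagonal a) :=
  mono_of_repWith (fun _ hg => hg) (repWith_diagonal_properties hK a).2.2.2.2

lemma prop_diagonal_separated {K U : Sp S} (hK : IsAlgSpace K) (a : K ⟶ U) :
    IsSeparatedMor (pullback.diagonal a) := by
  haveI := prop_diagonal_mono hK a
  exact repWith_of_isIso _

lemma prop_diagonal_unramified {K U : Sp S} (hK : IsAlgSpace K) (a : K ⟶ U) :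
    LocP (@LocallyOfFiniteType ⊓ @FormallyUnramified) (pullback.diagonal a) := by
  obtain ⟨-, h₁, -, -, h₂⟩ := repWith_diagonal_properties hK a
  refine locP_of_repWith ⟨h₁.rep, fun A B g fst snd sq => ⟨h₁.property g fst snd sq, ?_⟩⟩
  haveI : Mono snd.left := h₂.property g fst snd sq
  exact (inferInstance : FormallyUnramified snd.left)

lemma isDMMor_of_repByAlgSp1 {f : 𝒳 ⥤ᵇ 𝒴} (hf : AlgSt.RepByAlgSp1 f) : AlgSt.IsDMMor f :=
  repByAlgSpWith_diag_of_rep1 good_unramified.bc hf fun _ _ a hK => prop_diagonal_unramified hK a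

lemma isSeparatedMor_of_isMono {f : 𝒳 ⥤ᵇ 𝒴} (hf : AlgSt.IsMono f) : AlgSt.IsSeparatedMor f :=
  repByAlgSpWith_diag_of_rep good_proper.bc hf fun K U a hK ha => by
    haveI : Mono a := ha
    exact isProperMor_of_closedImmersion hK (isAlgSpace_pullback hK hK (IsAlgSpace.yon_obj U) a a)
      (repWith_of_isIso _)

lemma isQuasiDMMor_of_isDMMor {f : 𝒳 ⥤ᵇ 𝒴} (hf : AlgSt.IsDMMor f) : AlgSt.IsQuasiDMMor f :=
  repByAlgSpWith_mono (fun _ _ a _ _ h => locP_mono unramified_le_lqf h) hf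

lemma isDMMor_of_comp (h𝒴 : AlgSt.IsAlgStack K 𝒴) (h𝒵 : AlgSt.IsAlgStack K' 𝒵) {f : 𝒳 ⥤ᵇ 𝒴} {g : 𝒴 ⥤ᵇ 𝒵}
    (h : AlgSt.IsDMMor (BasedFunctor.comp f g)) : AlgSt.IsDMMor f :=
  repByAlgSpWith_diag_of_comp good_unramified.bc (Q := ⊤) h
    ((repByAlgSp1_iff_with_top _).mp (repByAlgSp1_diag h𝒴 h𝒵 g))
    fun _ _ _ h₁ h₂ h₃ _ _ hab _ => cancel_unramified h₁ h₂ h₃ hab

lemma isQuasiDMMor_of_comp (h𝒴 : AlgSt.IsAlgStack K 𝒴) (h𝒵 : AlgSt.IsAlgStack K' 𝒵) {f : 𝒳 ⥤ᵇ 𝒴} {g : 𝒴 ⥤ᵇ 𝒵}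
    (h : AlgSt.IsQuasiDMMor (BasedFunctor.comp f g)) : AlgSt.IsQuasiDMMor f :=
  repByAlgSpWith_diag_of_comp good_lqf.bc (Q := ⊤) h
    ((repByAlgSp1_iff_with_top _).mp (repByAlgSp1_diag h𝒴 h𝒵 g))
    fun _ _ _ h₁ h₂ h₃ _ _ hab _ => cancel_lqf h₁ h₂ h₃ hab

end AlgStBig
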