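import Groth.Agent.AlgStBig.MonoFull
import Groth.Agent.AlgStLib.ImmDescent

/-!
# Checking properties over a flat covering, and on a covering of the source
-/

set_option autoImplicit false
set_option linter.style.haveILetI false
set_option backward.isDefEq.respectTransparency false
set_option backward.isDefEq.respectTransparency.types false

universe vv1 ww1 vv2 ww2 vv3 ww3
universe u

open CategoryTheory CategoryTheory.Limits AlgebraicGeometry Opposite AlgSp FibCat FibLib AlgSpLib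

namespace AlgStBig
open AlgStLib

variable {S : Scheme.{u}} {𝒳 : BasedCategory.{vv1, ww1} (Over S)} {𝒴 : BasedCategory.{vv2, ww2} (Over S)} {𝒵 : BasedCategory.{vv3, ww3} (Over S)} {P : MorphismProperty (Sp S)}

/-- A property of spaces local on the base can be checked on one flat covering. -/
theorem repByAlgSpWith_iff_cover [IsFibGrpd 𝒳.p] [IsFibGrpd 𝒴.p] (hPb : StableBC P)
    (hP : IsLocalOnBase IsFppfCover P) {f : 𝒳 ⥤ᵇ 𝒴} (hf : AlgSt.RepByAlgSp1 f) (W : AlgSp.Space S)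
    {w : AlgSt.ofSp W.obj ⥤ᵇ 𝒴} (hw₁ : AlgSt.RepByAlgSpWith (LocP @Flat) w)
    (hw₂ : AlgSt.RepByAlgSpWith (LocP @LocallyOfFinitePresentation) w)
    (hw₃ : AlgSt.RepByAlgSpWith IsSurjectiveMor w) :
    AlgSt.RepByAlgSpWith P f ↔
      ∃ (V : AlgSp.Space S) (a : V ⟶ W) (e : AlgSt.ofSp V.obj ⥤ᵇ FibCat.fp w f),
        FibCat.IsEquivOver e ∧
          Nonempty (BasedFunctor.comp e (FibCat.fpFst w f) ≅ AlgSt.ofSpMap a.hom) ∧ P a.hom := by
  constructor
  · intro h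
    obtain ⟨H, a, hH, ⟨e, he, hα⟩, hPa⟩ := exists_along_prop hPb hP h W.property w
    exact ⟨⟨H, hH⟩, ObjectProperty.homMk a, e, he, hα, hPa⟩
  · rintro ⟨V, a, e, he, ⟨α⟩, hPa⟩
    refine repByAlgSpWith_of_fppf_cover hPb hP hf hw₁ hw₂ hw₃ ?_
    exact (repByAlgSpWith_square_iff (f := FibCat.fpFst w f) (f' := AlgSt.ofSpMap a.hom) (a := e)
      (b := BasedFunctor.id _) he (isEquivOver_id _) α.symm P).mpr
      (repByAlgSpWith_ofSpMap V.property W.property a.hom fun U ξ =>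
        hPb V.property W.property (isAlgSpace_pullback V.property (IsAlgSpace.yon_obj U) W.property a.hom ξ)
          (IsAlgSpace.yon_obj U) _ _ _ _ (IsPullback.of_hasPullback a.hom ξ) hPa)

lemma isImmersion_le_sepLqf : (@IsImmersion : MorphismProperty Scheme.{u}) ≤ SepLqf := fun _ _ f (_ : IsImmersion f) =>
  ⟨(inferInstance : IsSeparated f), (inferInstance : LocallyQuasiFinite f), (inferInstance : LocallyOfFiniteType f)⟩

/-- A property local on the source can be checked on a covering of the source. -/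
theorem repByAlgSpWith_of_source_cover [IsFibGrpd 𝒳.p] [IsFibGrpd 𝒴.p] [IsFibGrpd 𝒵.p] {τ : CovNotion S}
    (hP : IsLocalOnBase IsFppfCover P) (hPb : StableBC P) (hP' : IsLocalOnSource τ P) {x : 𝒳 ⥤ᵇ 𝒴}
    {y : 𝒴 ⥤ᵇ 𝒵} (hy : AlgSt.RepByAlgSp1 y) (hx : AlgSt.RepByAlgSp1 x)
    (hcov : ∀ ⦃H K : Sp S⦄ (b : K ⟶ H), IsAlgSpace H → IsAlgSpace K →
      (∃ v : AlgSt.ofSp H ⥤ᵇ 𝒴, Along v x b.hom) → τ (fun _ : PUnit.{u + 1} => K) (fun _ => b))
    (h : AlgSt.RepByAlgSpWith P (BasedFunctor.comp x y)) : AlgSt.RepByAlgSpWith P y := by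
  refine repByAlgSpWith_of_forall hy fun U u H a hH ha => ?_
  obtain ⟨v, hv⟩ := ha.comp (f := x)
  obtain ⟨K, b, hK, hb⟩ := exists_along hx hH v
  refine (hP' (ι := PUnit.{u + 1}) (fun _ => K) (fun _ => b) hH (fun _ => hK)
    (hcov b hH hK ⟨v, hb⟩) a (IsAlgSpace.yon_obj U)).mpr fun _ => ?_
  obtain ⟨H', a', hH', ha', hPa⟩ := exists_along_prop hPb hP h (IsAlgSpace.yon_obj U) u
  obtain ⟨i, hi⟩ := along_hom_unique (a := b ≫ a) (hv b.hom hb) ha'
  rw [← hi]
  exact hPb.precomp_iso i a' hH' (IsAlgSpace.yon_obj U) hPa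

lemma prop_of_along_space [IsFibGrpd 𝒳.p] [IsFibGrpd 𝒴.p] (hPb : StableBC P) (hP : SchTest P)
    {x : 𝒳 ⥤ᵇ 𝒴} (hx : AlgSt.RepByAlgSpWith P x) {H K : Sp S} {b : K ⟶ H} (hH : IsAlgSpace H)
    (hK : IsAlgSpace K) {v : AlgSt.ofSp H ⥤ᵇ 𝒴} (hb : Along v x b.hom) : P b := by
  obtain ⟨K', b', hK', hb', hPb'⟩ := exists_along_test hPb hP hx hH v
  obtain ⟨i, hi⟩ := along_hom_unique hb hb'
  rw [← hi]
  exact hPb.precomp_iso i b' hK' hH hPb'

end AlgStBig
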