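import Groth.Agent.AlgStBig.SmLoc

/-!
# Substacks and subsets of the space of points
-/

set_option autoImplicit false
set_option linter.style.haveILetI false
set_option backward.isDefEq.respectTransparency false
set_option backward.isDefEq.respectTransparency.types false

universe vv1 ww1 vv2 ww2
universe u

open CategoryTheory CategoryTheory.Limits AlgebraicGeometry Opposite AlgSp FibCat FibLib AlgSpLib Topology

noncomputable section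

namespace AlgStBig
open AlgStLib

variable {S : Scheme.{u}} {𝒳 : BasedCategory.{vv1, ww1} (Over S)} {𝒴 : BasedCategory.{vv2, ww2} (Over S)}

lemma exists_vert_to_lift [IsFibGrpd 𝒳.p] {R T : Over S} (β : R ⟶ T) {a b c : 𝒳.obj} (m : a ⟶ c) (n : b ⟶ c)
    [𝒳.p.IsHomLift β m] [𝒳.p.IsHomLift β n] : ∃ χ : a ⟶ b, 𝒳.p.IsHomLift (𝟙 R) χ := by
  haveI : 𝒳.p.IsStronglyCartesian β n :=
    (isStronglyCartesian_map_iff 𝒳.p β n).mp (IsFibGrpd.isStronglyCartesian n)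
  obtain ⟨χ, ⟨hχ, -⟩, -⟩ := Functor.IsStronglyCartesian.universal_property 𝒳.p β n (𝟙 R) β
    (Category.id_comp β).symm m
  exact ⟨χ, hχ⟩

section Full

variable {Q : 𝒳.obj → Prop}

lemma isFibGrpd_fullSub [IsFibGrpd 𝒳.p] (hQ : ∀ ⦃a b : 𝒳.obj⦄ (_ : b ⟶ a), Q a → Q b) :
    IsFibGrpd (AlgSt.fullSub 𝒳 Q).p where
  exists_lift {x V} f := by
    obtain ⟨b, φ, hφ⟩ := exists_lift 𝒳.p (a := x.obj) rfl f
    refine ⟨⟨b, hQ φ x.property⟩, ObjectProperty.homMk φ, ?_⟩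
    exact IsHomLift.of_fac _ _ _ (IsHomLift.domain_eq 𝒳.p f φ) rfl (@IsHomLift.fac _ _ _ _ 𝒳.p _ _ _ _ f φ hφ)
  isStronglyCartesian {y x} φ := by
    haveI : ((AlgSt.fullSub 𝒳 Q).p).IsHomLift ((AlgSt.fullSub 𝒳 Q).p.map φ) φ := IsHomLift.map _ φ
    refine { universal_property' := fun {a'} g φ' hφ' => ?_ }
    haveI h0 : 𝒳.p.IsStronglyCartesian (𝒳.p.map φ.hom) φ.hom := IsFibGrpd.isStronglyCartesian φ.hom
    haveI : 𝒳.p.IsHomLift (g ≫ 𝒳.p.map φ.hom) φ'.hom :=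
      IsHomLift.of_fac _ _ _ rfl rfl (@IsHomLift.fac _ _ _ _ (AlgSt.fullSub 𝒳 Q).p _ _ _ _ _ φ' hφ')
    obtain ⟨χ, ⟨hχ₁, hχ₂⟩, hu⟩ := Functor.IsStronglyCartesian.universal_property 𝒳.p (𝒳.p.map φ.hom) φ.hom
      g _ rfl φ'.hom
    refine ⟨ObjectProperty.homMk χ, ⟨IsHomLift.of_fac _ _ _ rfl rfl (@IsHomLift.fac _ _ _ _ 𝒳.p _ _ _ _ g χ hχ₁),
      ObjectProperty.hom_ext _ hχ₂⟩, fun ψ ⟨h₁, h₂⟩ => ObjectProperty.hom_ext _ (hu ψ.hom ⟨?_, ?_⟩)⟩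
    · exact IsHomLift.of_fac _ _ _ rfl rfl (@IsHomLift.fac _ _ _ _ (AlgSt.fullSub 𝒳 Q).p _ _ _ _ g ψ h₁)
    · exact congrArg (fun t => t.hom) h₂

lemma mem_of_hom [IsFibGrpd 𝒳.p] [hiso : ObjectProperty.IsClosedUnderIsomorphisms Q]
    (hgr : IsFibGrpd (AlgSt.fullSub 𝒳 Q).p) {a b : 𝒳.obj} (m : b ⟶ a) (ha : Q a) : Q b := by
  haveI := hgr
  obtain ⟨c, φ, hφ⟩ := exists_lift (AlgSt.fullSub 𝒳 Q).p (a := (⟨a, ha⟩ : (AlgSt.fullSub 𝒳 Q).obj))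
    rfl (𝒳.p.map m)
  haveI : 𝒳.p.IsHomLift (𝒳.p.map m) φ.hom :=
    IsHomLift.of_fac _ _ _ (IsHomLift.domain_eq (AlgSt.fullSub 𝒳 Q).p (𝒳.p.map m) φ) rfl
      (@IsHomLift.fac _ _ _ _ (AlgSt.fullSub 𝒳 Q).p _ _ _ _ _ φ hφ)
  haveI : 𝒳.p.IsHomLift (𝒳.p.map m) m := IsHomLift.map _ m
  obtain ⟨χ, hχ⟩ := exists_vert_to_lift (𝒳.p.map m) φ.hom m
  haveI := isIso_of_isHomLift 𝒳.p (𝟙 (𝒳.p.obj b)) χ
  exact ObjectProperty.prop_of_iso Q (asIso χ) c.property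

lemma mk_mem_range_subIncl (p : AlgSt.FPt 𝒳) (hp : Q p.obj) :
    AlgSt.Points.mk p ∈ Set.range (AlgSt.Points.map (AlgSt.subIncl 𝒳 Q)) :=
  ⟨AlgSt.Points.mk { K := p.K, str := p.str, obj := ⟨p.obj, hp⟩, lies := p.lies }, rfl⟩

end Full

section OfSet

variable (T : Set (AlgSt.Points 𝒳))

/-- The objects all of whose points lie in `T`. -/
def PtsIn : 𝒳.obj → Prop := fun a => ∀ (p : AlgSt.FPt 𝒳), (p.obj ⟶ a) → AlgSt.Points.mk p ∈ T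

variable {T}

lemma ptsIn_of_hom ⦃a b : 𝒳.obj⦄ (m : b ⟶ a) (ha : PtsIn T a) : PtsIn T b := fun p f => ha p (f ≫ m)

instance : ObjectProperty.IsClosedUnderIsomorphisms (PtsIn T) := ⟨fun e ha => ptsIn_of_hom e.inv ha⟩

lemma ptsIn_of_mk_mem {p : AlgSt.FPt 𝒳} (h : AlgSt.Points.mk p ∈ T) : PtsIn T p.obj :=
  fun q f => (mk_eq_of_hom f) ▸ h

lemma range_subIncl_ptsIn (T : Set (AlgSt.Points 𝒳)) :
    Set.range (AlgSt.Points.map (AlgSt.subIncl 𝒳 (PtsIn T))) = T := by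
  ext x
  constructor
  · rintro ⟨y, rfl⟩
    obtain ⟨q, rfl⟩ := AlgSt.Points.mk_surjective y
    exact q.obj.property (q.map (AlgSt.subIncl 𝒳 (PtsIn T))) (𝟙 _)
  · intro hx
    obtain ⟨p, rfl⟩ := AlgSt.Points.mk_surjective x
    exact mk_mem_range_subIncl p (ptsIn_of_mk_mem hx)

lemma ptsIn_obj_iff [IsFibGrpd 𝒳.p] {F : Sp S} (u : AlgSt.ofSp F ⥤ᵇ 𝒳) (o : (AlgSt.ofSp F).obj) :
    PtsIn T (u.obj o) ↔
      ∀ t, ptMap u (Points.ofPt ((AlgSp.J S).uliftYonedaEquiv.symm o.sec : (yon S).obj o.base ⟶ F) t) ∈ T := by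
  let a : (yon S).obj o.base ⟶ F := (AlgSp.J S).uliftYonedaEquiv.symm o.sec
  constructor
  · intro h t
    let P := AlgSp.FieldPt.ofPt a t
    let m : (⟨Over.mk P.str, P.val⟩ : Stk.EltObj F.obj) ⟶ o :=
      ⟨Over.homMk (o.base.left.fromSpecResidueField t) rfl, rfl⟩
    exact h ((ofFieldPt F P).map u) (u.map m)
  · intro h p f
    let q' : AlgSt.FPt 𝒳 := p
    have hb : 𝒳.p.obj (u.obj o) = o.base := u.w_obj o
    let β : Over.mk p.str ⟶ o.base := eqToHom p.lies.symm ≫ 𝒳.p.map f ≫ eqToHom hb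
    haveI : 𝒳.p.IsHomLift β f := IsHomLift.of_fac _ _ _ p.lies hb rfl
    let P : AlgSp.FieldPt F := ⟨p.K, p.str, F.obj.map β.op o.sec⟩
    let m : (⟨Over.mk p.str, P.val⟩ : Stk.EltObj F.obj) ⟶ o := ⟨β, rfl⟩
    haveI : (AlgSt.ofSp F).p.IsHomLift β m := IsHomLift.map _ m
    haveI := u.preserves_isHomLift β m
    obtain ⟨χ, -⟩ := exists_vert_to_lift β f (u.map m)
    have e1 : AlgSt.Points.mk p = ptMap u (Points.mk P) := mk_eq_of_hom (q := (ofFieldPt F P).map u) χ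
    have e2 : toMor P = (yon S).map β ≫ a := GrothendieckTopology.uliftYonedaEquiv_symm_map _ _ _
    rw [e1, mk_eq_ofPt_toMor, e2, ofPt_yon_comp]
    exact h _

lemma isFibGrpd_ptsIn [IsFibGrpd 𝒳.p] : IsFibGrpd (AlgSt.fullSub 𝒳 (PtsIn T)).p :=
  isFibGrpd_fullSub fun _ _ m h => ptsIn_of_hom m h

/-- The inclusion of the objects with points in an open set is an open immersion. -/
theorem isOpenImm_subIncl [IsFibGrpd 𝒳.p] (hA : AlgSt.HasAtlas (LocP @Smooth) 𝒳) (hT : IsOpen T) :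
    AlgSt.IsOpenImm (AlgSt.subIncl 𝒳 (PtsIn T)) := by
  refine (repByAlgSpWith_iff _ _).mpr fun U u => ?_
  let F := (yon S).obj U
  let O : Set (Points F) := ptMap u ⁻¹' T
  have hO : IsOpen O := hT.preimage (continuous_ptMap hA (IsAlgSpace.yon_obj U) u)
  have hF := IsAlgSpace.yon_obj (S := S) U
  refine ⟨openSub F O, openSubι F O, isAlgSpace_openSub hF hO, ?_, repWith_openSubι F hO⟩
  let ι := Stk.ofPshMap (openSubι F O).hom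
  have hQ : ∀ o, PtsIn T (u.obj (ι.obj o)) := fun o =>
    (ptsIn_obj_iff u _).2 fun t => o.sec.property t
  let v : AlgSt.ofSp (openSub F O) ⥤ᵇ AlgSt.fullSub 𝒳 (PtsIn T) :=
    { toFunctor := ObjectProperty.lift (PtsIn T) (ι.toFunctor ⋙ u.toFunctor) hQ
      w := (BasedFunctor.comp ι u).w }
  let e := fpLift (F := u) (G := AlgSt.subIncl 𝒳 (PtsIn T)) ι v (Iso.refl _)
  refine ⟨e, ?_, ⟨Iso.refl _⟩⟩
  haveI : e.toFunctor.Faithful := ⟨fun {a b} x y h => by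
    refine Stk.EltObj.hom_ext ?_
    exact congrArg (fun k => k.hom.fst.hom) h⟩
  haveI : e.toFunctor.Full := ⟨fun {a b} k => by
    have hk : (openSub F O).obj.map k.hom.fst.hom.op b.sec = a.sec := Subtype.ext k.hom.fst.map_sec
    refine ⟨⟨k.hom.fst.hom, hk⟩, fp_hom_ext (Stk.EltObj.hom_ext rfl) (ObjectProperty.hom_ext _ ?_)⟩
    have w := k.hom.w
    change u.map k.hom.fst ≫ 𝟙 _ = 𝟙 _ ≫ k.hom.snd.hom at w
    erw [Category.comp_id, Category.id_comp] at w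
    exact w⟩
  refine isEquivOver_of_vertEssSurj e fun ξ => ?_
  obtain ⟨⟨⟨U', sec⟩, z, i⟩, hi⟩ := ξ
  have hs : PtsIn T (u.obj ⟨U', sec⟩) := ptsIn_of_hom i.hom z.property
  let o : Stk.EltObj (openSub F O).obj := ⟨U', ⟨sec, (ptsIn_obj_iff u _).1 hs⟩⟩
  let j : (⟨u.obj (ι.obj o), hQ o⟩ : (AlgSt.fullSub 𝒳 (PtsIn T)).obj) ≅ z :=
    ObjectProperty.isoMk _ i
  let k : e.obj o ≅ _ := fpIsoMk (x := e.obj o) (y := ⟨⟨⟨U', sec⟩, z, i⟩, hi⟩) (Iso.refl _) j (by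
    change u.map (𝟙 _) ≫ i.hom = 𝟙 _ ≫ i.hom
    rw [u.toFunctor.map_id])
  refine ⟨o, k, ?_⟩
  haveI : (AlgSt.ofSch U).p.IsHomLift (𝟙 U') k.hom.hom.fst := IsHomLift.id rfl
  exact isHomLift_of_fst (𝟙 U') k.hom

theorem isOpenSubstack_ptsIn (h𝒳 : AlgSt.IsAlgStack Scheme.fppfPrecoverage 𝒳) (hT : IsOpen T) :
    AlgSt.IsOpenSubstack 𝒳 (PtsIn T) Scheme.fppfPrecoverage := by
  haveI := isFibGrpd_of_isAlgStack h𝒳
  haveI := isFibGrpd_ptsIn (T := T)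
  have h := isOpenImm_subIncl h𝒳.atlas hT
  exact ⟨inferInstance, isAlgStack_of_rep (isStack_of_repByAlgSp1 h𝒳.isStack (repByAlgSp1_of_with h))
    h𝒳 (repByAlgSp1_of_with h), h⟩

end OfSet

section Range

/-- The image of an open immersion is open. -/
theorem isOpen_range_of_isOpenImm [IsFibGrpd 𝒳.p] [IsFibGrpd 𝒴.p] {i : 𝒴 ⥤ᵇ 𝒳} (hi : AlgSt.IsOpenImm i) :
    IsOpen (Set.range (AlgSt.Points.map i)) := by
  intro U x _
  rw [ofChart_preimage, (Points.schemeHomeo U).isOpen_preimage]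
  obtain ⟨H, a, hH, ha, hPa⟩ := (repByAlgSpWith_iff _ i).mp hi U (BasedFunctor.comp (AlgSt.toOverCat U) x)
  obtain ⟨v, hv⟩ := preimage_image_along ha
  rw [← Set.image_univ, hv, Set.preimage_univ, Set.image_univ]
  exact (isOpenMap_map_of_isEtaleMor hH (isEtaleMor_of_openImmersion hPa)).isOpen_range

/-- A section of a base change along a chart through an object. -/
lemma exists_section_of_mem [IsFibGrpd 𝒳.p] {i : 𝒴 ⥤ᵇ 𝒳} {V : Over S} {u : AlgSt.ofSch V ⥤ᵇ 𝒳} {H : Sp S}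
    {a : H ⟶ (yon S).obj V} (ha : Along u i a.hom) [IsIso a] :
    ∃ z : 𝒴.obj, Nonempty (u.obj ⟨V, ⟨𝟙 V⟩⟩ ≅ i.obj z) := by
  obtain ⟨e, he, ⟨β⟩⟩ := ha
  let o : Stk.EltObj H.obj := ⟨V, (inv a).hom.app _ ⟨𝟙 V⟩⟩
  refine ⟨(e.obj o).obj.snd, ⟨?_ ≪≫ (e.obj o).obj.iso⟩⟩
  refine eqToIso (congrArg u.obj ?_) ≪≫ (u.toFunctor.mapIso (appIso β o)).symm
  change (⟨V, _⟩ : Stk.EltObj _) = ⟨V, a.hom.app _ ((inv a).hom.app _ ⟨𝟙 V⟩)⟩
  congr 1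
  exact congrArg (fun f : (yon S).obj V ⟶ (yon S).obj V => f.hom.app (op V) ⟨𝟙 V⟩) (IsIso.inv_hom_id a).symm

variable {Q : 𝒳.obj → Prop}

theorem openSubstack_eq (h𝒳 : AlgSt.IsAlgStack Scheme.fppfPrecoverage 𝒳)
    (hQ : AlgSt.IsOpenSubstack 𝒳 Q Scheme.fppfPrecoverage) :
    Q = PtsIn (Set.range (AlgSt.Points.map (AlgSt.subIncl 𝒳 Q))) := by
  haveI := isFibGrpd_of_isAlgStack h𝒳
  haveI hgr := isFibGrpd_of_isAlgStack hQ.2.1
  haveI := hQ.1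
  funext y
  apply propext
  refine ⟨fun hy p f => mk_mem_range_subIncl p (mem_of_hom hgr f hy), fun hy => ?_⟩
  let x : 𝒳.p.Fiber (𝒳.p.obj y) := Functor.Fiber.mk (p := 𝒳.p) (a := y) rfl
  let u : AlgSt.ofSch (𝒳.p.obj y) ⥤ᵇ 𝒳 := BasedFunctor.comp (AlgSt.toOverCat _) (ofPoint x)
  obtain ⟨k⟩ := nonempty_evalAtId_ofPoint_iso x
  let o : (AlgSt.ofSch (𝒳.p.obj y)).obj := ⟨𝒳.p.obj y, ⟨𝟙 _⟩⟩
  let ko : u.obj o ≅ y := ⟨k.hom.1, k.inv.1, congrArg Subtype.val k.hom_inv_id, congrArg Subtype.val k.inv_hom_id⟩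
  obtain ⟨H, a, hH, ha, hPa⟩ := (repByAlgSpWith_iff _ _).mp hQ.2.2 _ u
  obtain ⟨v, hv⟩ := preimage_image_along ha
  have hsurj : Function.Surjective (Points.map a) := fun z => by
    have hz : ptMap u z ∈ Set.range (AlgSt.Points.map (AlgSt.subIncl 𝒳 Q)) := by
      obtain ⟨t, rfl⟩ := (Points.schemeHomeo _).surjective z
      refine (ptsIn_obj_iff (F := (yon S).obj _) u o).1 (ptsIn_of_hom ko.hom hy) t |> fun h => ?_
      have e : ((AlgSp.J S).uliftYonedaEquiv.symm o.sec : (yon S).obj o.base ⟶ (yon S).obj (𝒳.p.obj y)) = 𝟙 _ :=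
        (AlgSp.J S).uliftYonedaEquiv.symm_apply_eq.2 rfl
      rw [e] at h
      exact h
    have : z ∈ ptMap u ⁻¹' (AlgSt.Points.map (AlgSt.subIncl 𝒳 Q) '' Set.univ) := by
      rw [Set.image_univ]; exact hz
    rw [hv] at this
    obtain ⟨w, -, hw⟩ := this
    exact ⟨w, hw⟩
  haveI := isIso_of_openImmersion_surjective hPa hsurj
  obtain ⟨z, ⟨j⟩⟩ := exists_section_of_mem ha
  exact ObjectProperty.prop_of_iso Q (j.symm ≪≫ ko) z.property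

theorem openSubstack_le_iff (h𝒳 : AlgSt.IsAlgStack Scheme.fppfPrecoverage 𝒳) {Q Q' : 𝒳.obj → Prop}
    (hQ : AlgSt.IsOpenSubstack 𝒳 Q Scheme.fppfPrecoverage) (hQ' : AlgSt.IsOpenSubstack 𝒳 Q' Scheme.fppfPrecoverage) :
    (∀ y, Q y → Q' y) ↔
      Set.range (AlgSt.Points.map (AlgSt.subIncl 𝒳 Q)) ⊆ Set.range (AlgSt.Points.map (AlgSt.subIncl 𝒳 Q')) := by
  constructor
  · rintro h _ ⟨x, rfl⟩
    obtain ⟨p, rfl⟩ := AlgSt.Points.mk_surjective x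
    exact mk_mem_range_subIncl (p.map (AlgSt.subIncl 𝒳 Q)) (h _ p.obj.property)
  · intro h y hy
    rw [openSubstack_eq h𝒳 hQ] at hy
    rw [openSubstack_eq h𝒳 hQ']
    exact fun p f => h (hy p f)

theorem bijOn_openSubstack (h𝒳 : AlgSt.IsAlgStack Scheme.fppfPrecoverage 𝒳) :
    Set.BijOn (fun Q : 𝒳.obj → Prop => Set.range (AlgSt.Points.map (AlgSt.subIncl 𝒳 Q)))
      {Q | AlgSt.IsOpenSubstack 𝒳 Q Scheme.fppfPrecoverage} {T | IsOpen T} := by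
  refine ⟨fun Q hQ => ?_, fun Q hQ Q' hQ' h => ?_, fun T hT => ⟨PtsIn T, isOpenSubstack_ptsIn h𝒳 hT, range_subIncl_ptsIn T⟩⟩
  · haveI := isFibGrpd_of_isAlgStack h𝒳
    haveI := isFibGrpd_of_isAlgStack hQ.2.1
    exact isOpen_range_of_isOpenImm hQ.2.2
  · rw [openSubstack_eq h𝒳 hQ, openSubstack_eq h𝒳 hQ']
    exact congrArg PtsIn h

theorem exists_union_openSubstack (h𝒳 : AlgSt.IsAlgStack Scheme.fppfPrecoverage 𝒳) {ι : Type*}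
    (Q : ι → 𝒳.obj → Prop) (hQ : ∀ i, AlgSt.IsOpenSubstack 𝒳 (Q i) Scheme.fppfPrecoverage) :
    ∃ Q' : 𝒳.obj → Prop, AlgSt.IsOpenSubstack 𝒳 Q' Scheme.fppfPrecoverage ∧ (∀ i y, Q i y → Q' y) ∧
      Set.range (AlgSt.Points.map (AlgSt.subIncl 𝒳 Q')) = ⋃ i, Set.range (AlgSt.Points.map (AlgSt.subIncl 𝒳 (Q i))) := by
  have hO : IsOpen (⋃ i, Set.range (AlgSt.Points.map (AlgSt.subIncl 𝒳 (Q i)))) :=
    isOpen_iUnion fun i => (bijOn_openSubstack h𝒳).1 (hQ i)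
  refine ⟨_, isOpenSubstack_ptsIn h𝒳 hO, fun i y hy => ?_, range_subIncl_ptsIn _⟩
  rw [openSubstack_eq h𝒳 (hQ i)] at hy
  exact fun p f => Set.mem_iUnion.2 ⟨i, hy p f⟩

theorem exists_finset_cover (h𝒳 : AlgSt.IsAlgStack Scheme.fppfPrecoverage 𝒳) {Q' : 𝒳.obj → Prop}
    (hQ' : AlgSt.IsOpenSubstack 𝒳 Q' Scheme.fppfPrecoverage) (hqc : AlgSt.IsQuasiCompact (AlgSt.fullSub 𝒳 Q'))
    {ι : Type*} (Q : ι → 𝒳.obj → Prop) (hQ : ∀ i, AlgSt.IsOpenSubstack 𝒳 (Q i) Scheme.fppfPrecoverage)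
    (hcov : Set.range (AlgSt.Points.map (AlgSt.subIncl 𝒳 Q')) ⊆ ⋃ i, Set.range (AlgSt.Points.map (AlgSt.subIncl 𝒳 (Q i)))) :
    ∃ I' : Finset ι, Set.range (AlgSt.Points.map (AlgSt.subIncl 𝒳 Q')) ⊆
      ⋃ i ∈ I', Set.range (AlgSt.Points.map (AlgSt.subIncl 𝒳 (Q i))) := by
  haveI := isFibGrpd_of_isAlgStack h𝒳
  haveI := isFibGrpd_of_isAlgStack hQ'.2.1
  haveI := compactSpace_of_isQuasiCompact hQ'.2.1.atlas hqc
  exact (isCompact_range (continuous_map h𝒳.atlas (AlgSt.subIncl 𝒳 Q'))).elim_finite_subcover _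
    (fun i => (bijOn_openSubstack h𝒳).1 (hQ i)) hcov

end Range

end AlgStBig
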